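import Cfsg.Agent.Lib.KnownA.D4Sub.Shape
import Cfsg.Agent.Lib.Chevalley.CoxeterTorus.Main
import Cfsg.Agent.Lib.KnownA.TwistMultiplier.Orbit

/-!
The six root families of the positive part of ³D₄(q): commutator rules, generation and torus weights.
-/

set_option autoImplicit false
set_option maxRecDepth 20000
set_option maxHeartbeats 1600000
set_option linter.all false
set_option Elab.async false

namespace CfsgLib.KnownA.D4Multiplier

open CfsgLib.Chevalley CfsgLib.Chevalley.Tbl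
open CfsgLib.KnownA.D4Sub (A B C A_fix B_fix C_fix long_fix x_add x_add' x_zero x_inv h3)
open CfsgLib.KnownA.D4Sub

variable {K : Type*} [Field K] [Finite K] {q : ℕ} (hq : IsPrimePow q) (hK : Nat.card K = q ^ 3)

local notation "TT" => Data.D4.tbl
local notation "xx" => Data.D4.tbl.xU K
local notation "σ" => Twist.D4.fq hq hK
local notation "SS" => AbSetup.S (Twist.D4.setup hq hK)

/-- The field with `q` elements. -/
noncomputable def fF : Subfield K :=
  RingHom.eqLocusField (Twist.D4.fq hq hK).toRingHom (RingHom.id K)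

theorem mem_fF {t : K} : t ∈ fF hq hK ↔ σ t = t := Iff.rfl

/-- The parameters of the families. -/
noncomputable def pars : Fin 6 → Subfield K :=
  ![fF hq hK, fF hq hK, ⊤, ⊤, ⊤, fF hq hK]

/-- The families, from the highest root down. -/
noncomputable def el : Fin 6 → K → GL (Data.D4.tbl).I K :=
  ![Data.D4.tbl.xU K 23, Data.D4.tbl.xU K 22, C hq hK, B hq hK, A hq hK, Data.D4.tbl.xU K 14]

/-- The norm to the small field. -/
noncomputable def Nq (t : K) : K := t * σ t * σ (σ t)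

/-- The twisted trace pairing. -/
noncomputable def Lq (t u : K) : K := u * σ t + σ u * σ (σ t) + σ (σ u) * t

theorem A_x14 (t u : K) (hu : σ u = u) : A hq hK t * xx 14 u = xx 14 u * (A hq hK t *
    (B hq hK (-(t * u)) * (C hq hK (t * σ t * u) *
      (xx 22 (-(u * Nq hq hK t)) * xx 23 (2 * u * u * Nq hq hK t))))) := by
  unfold Nq
  simp (discharger := omega) only [D4Sub.A, D4Sub.B, D4Sub.C, mul_assoc,
    sw_13_12, sw_13_12', sw_14_12, sw_14_12', sw_14_13, sw_14_13', sw_15_12, sw_15_12', sw_15_13,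
    sw_15_13', sw_15_14, sw_15_14', sw_16_12, sw_16_12', sw_16_13, sw_16_13', sw_16_14, sw_16_14',
    sw_16_15, sw_16_15', sw_17_12, sw_17_12', sw_17_13, sw_17_13', sw_17_14, sw_17_14', sw_17_15,
    sw_17_15', sw_17_16, sw_17_16', sw_18_12, sw_18_12', sw_18_13, sw_18_13', sw_18_14, sw_18_14',
    sw_18_15, sw_18_15', sw_18_16, sw_18_16', sw_18_17, sw_18_17', sw_19_12, sw_19_12', sw_19_13,
    sw_19_13', sw_19_14, sw_19_14', sw_19_15, sw_19_15', sw_19_16, sw_19_16', sw_19_17, sw_19_17',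
    sw_19_18, sw_19_18', sw_20_12, sw_20_12', sw_20_13, sw_20_13', sw_20_14, sw_20_14', sw_20_15,
    sw_20_15', sw_20_16, sw_20_16', sw_20_17, sw_20_17', sw_20_18, sw_20_18', sw_20_19, sw_20_19',
    sw_21_12, sw_21_12', sw_21_13, sw_21_13', sw_21_14, sw_21_14', sw_21_15, sw_21_15', sw_21_16,
    sw_21_16', sw_21_17, sw_21_17', sw_21_18, sw_21_18', sw_21_19, sw_21_19', sw_21_20, sw_21_20',
    sw_22_12, sw_22_12', sw_22_13, sw_22_13', sw_22_14, sw_22_14', sw_22_15, sw_22_15', sw_22_16,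
    sw_22_16', sw_22_17, sw_22_17', sw_22_18, sw_22_18', sw_22_19, sw_22_19', sw_22_20, sw_22_20',
    sw_22_21, sw_22_21', sw_23_12, sw_23_12', sw_23_13, sw_23_13', sw_23_14, sw_23_14', sw_23_15,
    sw_23_15', sw_23_16, sw_23_16', sw_23_17, sw_23_17', sw_23_18, sw_23_18', sw_23_19, sw_23_19',
    sw_23_20, sw_23_20', sw_23_21, sw_23_21', sw_23_22, sw_23_22',
    x_add, x_add']
  simp only [map_neg, map_mul, hu, h3 hq hK]
  ring_nf
  simp only [x_zero (show 15 < 24 by norm_num), x_zero (show 16 < 24 by norm_num),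
    x_zero (show 17 < 24 by norm_num), x_zero (show 20 < 24 by norm_num), x_zero (show 21 < 24 by norm_num),
    x_zero (show 22 < 24 by norm_num), x_zero (show 23 < 24 by norm_num), one_mul, mul_one]

theorem B_A (t u : K) : B hq hK t * A hq hK u = A hq hK u * (B hq hK t *
    (C hq hK (-(σ u * t + σ t * u)) *
      (xx 22 (t * σ u * σ (σ u) + σ t * σ (σ u) * u + σ (σ t) * u * σ u) *
        xx 23 (u * σ t * σ (σ t) + σ u * σ (σ t) * t + σ (σ u) * t * σ t)))) := by
  simp (discharger := omega) only [D4Sub.A, D4Sub.B, D4Sub.C, mul_assoc,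
    sw_13_12, sw_13_12', sw_14_12, sw_14_12', sw_14_13, sw_14_13', sw_15_12, sw_15_12', sw_15_13,
    sw_15_13', sw_15_14, sw_15_14', sw_16_12, sw_16_12', sw_16_13, sw_16_13', sw_16_14, sw_16_14',
    sw_16_15, sw_16_15', sw_17_12, sw_17_12', sw_17_13, sw_17_13', sw_17_14, sw_17_14', sw_17_15,
    sw_17_15', sw_17_16, sw_17_16', sw_18_12, sw_18_12', sw_18_13, sw_18_13', sw_18_14, sw_18_14',
    sw_18_15, sw_18_15', sw_18_16, sw_18_16', sw_18_17, sw_18_17', sw_19_12, sw_19_12', sw_19_13,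
    sw_19_13', sw_19_14, sw_19_14', sw_19_15, sw_19_15', sw_19_16, sw_19_16', sw_19_17, sw_19_17',
    sw_19_18, sw_19_18', sw_20_12, sw_20_12', sw_20_13, sw_20_13', sw_20_14, sw_20_14', sw_20_15,
    sw_20_15', sw_20_16, sw_20_16', sw_20_17, sw_20_17', sw_20_18, sw_20_18', sw_20_19, sw_20_19',
    sw_21_12, sw_21_12', sw_21_13, sw_21_13', sw_21_14, sw_21_14', sw_21_15, sw_21_15', sw_21_16,
    sw_21_16', sw_21_17, sw_21_17', sw_21_18, sw_21_18', sw_21_19, sw_21_19', sw_21_20, sw_21_20',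
    sw_22_12, sw_22_12', sw_22_13, sw_22_13', sw_22_14, sw_22_14', sw_22_15, sw_22_15', sw_22_16,
    sw_22_16', sw_22_17, sw_22_17', sw_22_18, sw_22_18', sw_22_19, sw_22_19', sw_22_20, sw_22_20',
    sw_22_21, sw_22_21', sw_23_12, sw_23_12', sw_23_13, sw_23_13', sw_23_14, sw_23_14', sw_23_15,
    sw_23_15', sw_23_16, sw_23_16', sw_23_17, sw_23_17', sw_23_18, sw_23_18', sw_23_19, sw_23_19',
    sw_23_20, sw_23_20', sw_23_21, sw_23_21', sw_23_22, sw_23_22',
    x_add, x_add']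
  simp only [map_neg, map_mul, map_add, h3 hq hK]
  ring_nf
  simp only [x_zero (show 23 < 24 by norm_num), mul_one]

theorem C_A (t u : K) :
    C hq hK t * A hq hK u = A hq hK u * (C hq hK t * xx 22 (-Lq hq hK t u)) := by
  unfold Lq
  simp (discharger := omega) only [D4Sub.A, D4Sub.B, D4Sub.C, mul_assoc,
    sw_13_12, sw_13_12', sw_14_12, sw_14_12', sw_14_13, sw_14_13', sw_15_12, sw_15_12', sw_15_13,
    sw_15_13', sw_15_14, sw_15_14', sw_16_12, sw_16_12', sw_16_13, sw_16_13', sw_16_14, sw_16_14',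
    sw_16_15, sw_16_15', sw_17_12, sw_17_12', sw_17_13, sw_17_13', sw_17_14, sw_17_14', sw_17_15,
    sw_17_15', sw_17_16, sw_17_16', sw_18_12, sw_18_12', sw_18_13, sw_18_13', sw_18_14, sw_18_14',
    sw_18_15, sw_18_15', sw_18_16, sw_18_16', sw_18_17, sw_18_17', sw_19_12, sw_19_12', sw_19_13,
    sw_19_13', sw_19_14, sw_19_14', sw_19_15, sw_19_15', sw_19_16, sw_19_16', sw_19_17, sw_19_17',
    sw_19_18, sw_19_18', sw_20_12, sw_20_12', sw_20_13, sw_20_13', sw_20_14, sw_20_14', sw_20_15,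
    sw_20_15', sw_20_16, sw_20_16', sw_20_17, sw_20_17', sw_20_18, sw_20_18', sw_20_19, sw_20_19',
    sw_21_12, sw_21_12', sw_21_13, sw_21_13', sw_21_14, sw_21_14', sw_21_15, sw_21_15', sw_21_16,
    sw_21_16', sw_21_17, sw_21_17', sw_21_18, sw_21_18', sw_21_19, sw_21_19', sw_21_20, sw_21_20',
    sw_22_12, sw_22_12', sw_22_13, sw_22_13', sw_22_14, sw_22_14', sw_22_15, sw_22_15', sw_22_16,
    sw_22_16', sw_22_17, sw_22_17', sw_22_18, sw_22_18', sw_22_19, sw_22_19', sw_22_20, sw_22_20',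
    sw_22_21, sw_22_21', sw_23_12, sw_23_12', sw_23_13, sw_23_13', sw_23_14, sw_23_14', sw_23_15,
    sw_23_15', sw_23_16, sw_23_16', sw_23_17, sw_23_17', sw_23_18, sw_23_18', sw_23_19, sw_23_19',
    sw_23_20, sw_23_20', sw_23_21, sw_23_21', sw_23_22, sw_23_22',
    x_add, x_add']
  ring_nf

theorem C_B (t u : K) :
    C hq hK t * B hq hK u = B hq hK u * (C hq hK t * xx 23 (-Lq hq hK t u)) := by
  unfold Lq
  simp (discharger := omega) only [D4Sub.A, D4Sub.B, D4Sub.C, mul_assoc,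
    sw_13_12, sw_13_12', sw_14_12, sw_14_12', sw_14_13, sw_14_13', sw_15_12, sw_15_12', sw_15_13,
    sw_15_13', sw_15_14, sw_15_14', sw_16_12, sw_16_12', sw_16_13, sw_16_13', sw_16_14, sw_16_14',
    sw_16_15, sw_16_15', sw_17_12, sw_17_12', sw_17_13, sw_17_13', sw_17_14, sw_17_14', sw_17_15,
    sw_17_15', sw_17_16, sw_17_16', sw_18_12, sw_18_12', sw_18_13, sw_18_13', sw_18_14, sw_18_14',
    sw_18_15, sw_18_15', sw_18_16, sw_18_16', sw_18_17, sw_18_17', sw_19_12, sw_19_12', sw_19_13,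
    sw_19_13', sw_19_14, sw_19_14', sw_19_15, sw_19_15', sw_19_16, sw_19_16', sw_19_17, sw_19_17',
    sw_19_18, sw_19_18', sw_20_12, sw_20_12', sw_20_13, sw_20_13', sw_20_14, sw_20_14', sw_20_15,
    sw_20_15', sw_20_16, sw_20_16', sw_20_17, sw_20_17', sw_20_18, sw_20_18', sw_20_19, sw_20_19',
    sw_21_12, sw_21_12', sw_21_13, sw_21_13', sw_21_14, sw_21_14', sw_21_15, sw_21_15', sw_21_16,
    sw_21_16', sw_21_17, sw_21_17', sw_21_18, sw_21_18', sw_21_19, sw_21_19', sw_21_20, sw_21_20',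
    sw_22_12, sw_22_12', sw_22_13, sw_22_13', sw_22_14, sw_22_14', sw_22_15, sw_22_15', sw_22_16,
    sw_22_16', sw_22_17, sw_22_17', sw_22_18, sw_22_18', sw_22_19, sw_22_19', sw_22_20, sw_22_20',
    sw_22_21, sw_22_21', sw_23_12, sw_23_12', sw_23_13, sw_23_13', sw_23_14, sw_23_14', sw_23_15,
    sw_23_15', sw_23_16, sw_23_16', sw_23_17, sw_23_17', sw_23_18, sw_23_18', sw_23_19, sw_23_19',
    sw_23_20, sw_23_20', sw_23_21, sw_23_21', sw_23_22, sw_23_22',
    x_add, x_add']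
  ring_nf

theorem x22_x14 (t u : K) : xx 22 t * xx 14 u = xx 14 u * (xx 22 t * xx 23 (-(u * t))) := by
  simp (discharger := omega) only [D4Sub.A, D4Sub.B, D4Sub.C, mul_assoc,
    sw_13_12, sw_13_12', sw_14_12, sw_14_12', sw_14_13, sw_14_13', sw_15_12, sw_15_12', sw_15_13,
    sw_15_13', sw_15_14, sw_15_14', sw_16_12, sw_16_12', sw_16_13, sw_16_13', sw_16_14, sw_16_14',
    sw_16_15, sw_16_15', sw_17_12, sw_17_12', sw_17_13, sw_17_13', sw_17_14, sw_17_14', sw_17_15,
    sw_17_15', sw_17_16, sw_17_16', sw_18_12, sw_18_12', sw_18_13, sw_18_13', sw_18_14, sw_18_14',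
    sw_18_15, sw_18_15', sw_18_16, sw_18_16', sw_18_17, sw_18_17', sw_19_12, sw_19_12', sw_19_13,
    sw_19_13', sw_19_14, sw_19_14', sw_19_15, sw_19_15', sw_19_16, sw_19_16', sw_19_17, sw_19_17',
    sw_19_18, sw_19_18', sw_20_12, sw_20_12', sw_20_13, sw_20_13', sw_20_14, sw_20_14', sw_20_15,
    sw_20_15', sw_20_16, sw_20_16', sw_20_17, sw_20_17', sw_20_18, sw_20_18', sw_20_19, sw_20_19',
    sw_21_12, sw_21_12', sw_21_13, sw_21_13', sw_21_14, sw_21_14', sw_21_15, sw_21_15', sw_21_16,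
    sw_21_16', sw_21_17, sw_21_17', sw_21_18, sw_21_18', sw_21_19, sw_21_19', sw_21_20, sw_21_20',
    sw_22_12, sw_22_12', sw_22_13, sw_22_13', sw_22_14, sw_22_14', sw_22_15, sw_22_15', sw_22_16,
    sw_22_16', sw_22_17, sw_22_17', sw_22_18, sw_22_18', sw_22_19, sw_22_19', sw_22_20, sw_22_20',
    sw_22_21, sw_22_21', sw_23_12, sw_23_12', sw_23_13, sw_23_13', sw_23_14, sw_23_14', sw_23_15,
    sw_23_15', sw_23_16, sw_23_16', sw_23_17, sw_23_17', sw_23_18, sw_23_18', sw_23_19, sw_23_19',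
    sw_23_20, sw_23_20', sw_23_21, sw_23_21', sw_23_22, sw_23_22',
    x_add, x_add']

theorem commutes (t u : K) :
    Commute (B hq hK t) (xx 14 u) ∧ Commute (C hq hK t) (xx 14 u) ∧ Commute (xx 23 t) (xx 14 u) ∧
      Commute (xx 22 t) (A hq hK u) ∧ Commute (xx 23 t) (A hq hK u) ∧
      Commute (xx 22 t) (B hq hK u) ∧ Commute (xx 23 t) (B hq hK u) ∧
      Commute (xx 22 t) (C hq hK u) ∧ Commute (xx 23 t) (C hq hK u) ∧ Commute (xx 23 t) (xx 22 u) := by
  unfold Commute SemiconjBy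
  refine ⟨?_, ?_, ?_, ?_, ?_, ?_, ?_, ?_, ?_, ?_⟩
  all_goals first
    | (simp (discharger := omega) only [D4Sub.A, D4Sub.B, D4Sub.C, mul_assoc,
    sw_13_12, sw_13_12', sw_14_12, sw_14_12', sw_14_13, sw_14_13', sw_15_12, sw_15_12', sw_15_13,
    sw_15_13', sw_15_14, sw_15_14', sw_16_12, sw_16_12', sw_16_13, sw_16_13', sw_16_14, sw_16_14',
    sw_16_15, sw_16_15', sw_17_12, sw_17_12', sw_17_13, sw_17_13', sw_17_14, sw_17_14', sw_17_15,
    sw_17_15', sw_17_16, sw_17_16', sw_18_12, sw_18_12', sw_18_13, sw_18_13', sw_18_14, sw_18_14',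
    sw_18_15, sw_18_15', sw_18_16, sw_18_16', sw_18_17, sw_18_17', sw_19_12, sw_19_12', sw_19_13,
    sw_19_13', sw_19_14, sw_19_14', sw_19_15, sw_19_15', sw_19_16, sw_19_16', sw_19_17, sw_19_17',
    sw_19_18, sw_19_18', sw_20_12, sw_20_12', sw_20_13, sw_20_13', sw_20_14, sw_20_14', sw_20_15,
    sw_20_15', sw_20_16, sw_20_16', sw_20_17, sw_20_17', sw_20_18, sw_20_18', sw_20_19, sw_20_19',
    sw_21_12, sw_21_12', sw_21_13, sw_21_13', sw_21_14, sw_21_14', sw_21_15, sw_21_15', sw_21_16,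
    sw_21_16', sw_21_17, sw_21_17', sw_21_18, sw_21_18', sw_21_19, sw_21_19', sw_21_20, sw_21_20',
    sw_22_12, sw_22_12', sw_22_13, sw_22_13', sw_22_14, sw_22_14', sw_22_15, sw_22_15', sw_22_16,
    sw_22_16', sw_22_17, sw_22_17', sw_22_18, sw_22_18', sw_22_19, sw_22_19', sw_22_20, sw_22_20',
    sw_22_21, sw_22_21', sw_23_12, sw_23_12', sw_23_13, sw_23_13', sw_23_14, sw_23_14', sw_23_15,
    sw_23_15', sw_23_16, sw_23_16', sw_23_17, sw_23_17', sw_23_18, sw_23_18', sw_23_19, sw_23_19',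
    sw_23_20, sw_23_20', sw_23_21, sw_23_21', sw_23_22, sw_23_22',
    x_add, x_add']; done)
    | (simp (discharger := omega) only [D4Sub.A, D4Sub.B, D4Sub.C, mul_assoc,
    sw_13_12, sw_13_12', sw_14_12, sw_14_12', sw_14_13, sw_14_13', sw_15_12, sw_15_12', sw_15_13,
    sw_15_13', sw_15_14, sw_15_14', sw_16_12, sw_16_12', sw_16_13, sw_16_13', sw_16_14, sw_16_14',
    sw_16_15, sw_16_15', sw_17_12, sw_17_12', sw_17_13, sw_17_13', sw_17_14, sw_17_14', sw_17_15,
    sw_17_15', sw_17_16, sw_17_16', sw_18_12, sw_18_12', sw_18_13, sw_18_13', sw_18_14, sw_18_14',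
    sw_18_15, sw_18_15', sw_18_16, sw_18_16', sw_18_17, sw_18_17', sw_19_12, sw_19_12', sw_19_13,
    sw_19_13', sw_19_14, sw_19_14', sw_19_15, sw_19_15', sw_19_16, sw_19_16', sw_19_17, sw_19_17',
    sw_19_18, sw_19_18', sw_20_12, sw_20_12', sw_20_13, sw_20_13', sw_20_14, sw_20_14', sw_20_15,
    sw_20_15', sw_20_16, sw_20_16', sw_20_17, sw_20_17', sw_20_18, sw_20_18', sw_20_19, sw_20_19',
    sw_21_12, sw_21_12', sw_21_13, sw_21_13', sw_21_14, sw_21_14', sw_21_15, sw_21_15', sw_21_16,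
    sw_21_16', sw_21_17, sw_21_17', sw_21_18, sw_21_18', sw_21_19, sw_21_19', sw_21_20, sw_21_20',
    sw_22_12, sw_22_12', sw_22_13, sw_22_13', sw_22_14, sw_22_14', sw_22_15, sw_22_15', sw_22_16,
    sw_22_16', sw_22_17, sw_22_17', sw_22_18, sw_22_18', sw_22_19, sw_22_19', sw_22_20, sw_22_20',
    sw_22_21, sw_22_21', sw_23_12, sw_23_12', sw_23_13, sw_23_13', sw_23_14, sw_23_14', sw_23_15,
    sw_23_15', sw_23_16, sw_23_16', sw_23_17, sw_23_17', sw_23_18, sw_23_18', sw_23_19, sw_23_19',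
    sw_23_20, sw_23_20', sw_23_21, sw_23_21', sw_23_22, sw_23_22',
    x_add, x_add']; ring_nf)

theorem el_add (k : Fin 6) (s t : K) : el hq hK k s * el hq hK k t = el hq hK k (s + t) := by
  fin_cases k
  · exact x_add (by norm_num) s t
  · exact x_add (by norm_num) s t
  · show C hq hK s * C hq hK t = C hq hK (s + t)
    simp (discharger := omega) only [D4Sub.A, D4Sub.B, D4Sub.C, mul_assoc,
    sw_13_12, sw_13_12', sw_14_12, sw_14_12', sw_14_13, sw_14_13', sw_15_12, sw_15_12', sw_15_13,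
    sw_15_13', sw_15_14, sw_15_14', sw_16_12, sw_16_12', sw_16_13, sw_16_13', sw_16_14, sw_16_14',
    sw_16_15, sw_16_15', sw_17_12, sw_17_12', sw_17_13, sw_17_13', sw_17_14, sw_17_14', sw_17_15,
    sw_17_15', sw_17_16, sw_17_16', sw_18_12, sw_18_12', sw_18_13, sw_18_13', sw_18_14, sw_18_14',
    sw_18_15, sw_18_15', sw_18_16, sw_18_16', sw_18_17, sw_18_17', sw_19_12, sw_19_12', sw_19_13,
    sw_19_13', sw_19_14, sw_19_14', sw_19_15, sw_19_15', sw_19_16, sw_19_16', sw_19_17, sw_19_17',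
    sw_19_18, sw_19_18', sw_20_12, sw_20_12', sw_20_13, sw_20_13', sw_20_14, sw_20_14', sw_20_15,
    sw_20_15', sw_20_16, sw_20_16', sw_20_17, sw_20_17', sw_20_18, sw_20_18', sw_20_19, sw_20_19',
    sw_21_12, sw_21_12', sw_21_13, sw_21_13', sw_21_14, sw_21_14', sw_21_15, sw_21_15', sw_21_16,
    sw_21_16', sw_21_17, sw_21_17', sw_21_18, sw_21_18', sw_21_19, sw_21_19', sw_21_20, sw_21_20',
    sw_22_12, sw_22_12', sw_22_13, sw_22_13', sw_22_14, sw_22_14', sw_22_15, sw_22_15', sw_22_16,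
    sw_22_16', sw_22_17, sw_22_17', sw_22_18, sw_22_18', sw_22_19, sw_22_19', sw_22_20, sw_22_20',
    sw_22_21, sw_22_21', sw_23_12, sw_23_12', sw_23_13, sw_23_13', sw_23_14, sw_23_14', sw_23_15,
    sw_23_15', sw_23_16, sw_23_16', sw_23_17, sw_23_17', sw_23_18, sw_23_18', sw_23_19, sw_23_19',
    sw_23_20, sw_23_20', sw_23_21, sw_23_21', sw_23_22, sw_23_22',
    x_add, x_add']
    simp only [map_add, neg_add]
  · show B hq hK s * B hq hK t = B hq hK (s + t)
    simp (discharger := omega) only [D4Sub.A, D4Sub.B, D4Sub.C, mul_assoc,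
    sw_13_12, sw_13_12', sw_14_12, sw_14_12', sw_14_13, sw_14_13', sw_15_12, sw_15_12', sw_15_13,
    sw_15_13', sw_15_14, sw_15_14', sw_16_12, sw_16_12', sw_16_13, sw_16_13', sw_16_14, sw_16_14',
    sw_16_15, sw_16_15', sw_17_12, sw_17_12', sw_17_13, sw_17_13', sw_17_14, sw_17_14', sw_17_15,
    sw_17_15', sw_17_16, sw_17_16', sw_18_12, sw_18_12', sw_18_13, sw_18_13', sw_18_14, sw_18_14',
    sw_18_15, sw_18_15', sw_18_16, sw_18_16', sw_18_17, sw_18_17', sw_19_12, sw_19_12', sw_19_13,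
    sw_19_13', sw_19_14, sw_19_14', sw_19_15, sw_19_15', sw_19_16, sw_19_16', sw_19_17, sw_19_17',
    sw_19_18, sw_19_18', sw_20_12, sw_20_12', sw_20_13, sw_20_13', sw_20_14, sw_20_14', sw_20_15,
    sw_20_15', sw_20_16, sw_20_16', sw_20_17, sw_20_17', sw_20_18, sw_20_18', sw_20_19, sw_20_19',
    sw_21_12, sw_21_12', sw_21_13, sw_21_13', sw_21_14, sw_21_14', sw_21_15, sw_21_15', sw_21_16,
    sw_21_16', sw_21_17, sw_21_17', sw_21_18, sw_21_18', sw_21_19, sw_21_19', sw_21_20, sw_21_20',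
    sw_22_12, sw_22_12', sw_22_13, sw_22_13', sw_22_14, sw_22_14', sw_22_15, sw_22_15', sw_22_16,
    sw_22_16', sw_22_17, sw_22_17', sw_22_18, sw_22_18', sw_22_19, sw_22_19', sw_22_20, sw_22_20',
    sw_22_21, sw_22_21', sw_23_12, sw_23_12', sw_23_13, sw_23_13', sw_23_14, sw_23_14', sw_23_15,
    sw_23_15', sw_23_16, sw_23_16', sw_23_17, sw_23_17', sw_23_18, sw_23_18', sw_23_19, sw_23_19',
    sw_23_20, sw_23_20', sw_23_21, sw_23_21', sw_23_22, sw_23_22',
    x_add, x_add']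
    simp only [map_add, neg_add]
  · show A hq hK s * A hq hK t = A hq hK (s + t)
    simp (discharger := omega) only [D4Sub.A, D4Sub.B, D4Sub.C, mul_assoc,
    sw_13_12, sw_13_12', sw_14_12, sw_14_12', sw_14_13, sw_14_13', sw_15_12, sw_15_12', sw_15_13,
    sw_15_13', sw_15_14, sw_15_14', sw_16_12, sw_16_12', sw_16_13, sw_16_13', sw_16_14, sw_16_14',
    sw_16_15, sw_16_15', sw_17_12, sw_17_12', sw_17_13, sw_17_13', sw_17_14, sw_17_14', sw_17_15,
    sw_17_15', sw_17_16, sw_17_16', sw_18_12, sw_18_12', sw_18_13, sw_18_13', sw_18_14, sw_18_14',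
    sw_18_15, sw_18_15', sw_18_16, sw_18_16', sw_18_17, sw_18_17', sw_19_12, sw_19_12', sw_19_13,
    sw_19_13', sw_19_14, sw_19_14', sw_19_15, sw_19_15', sw_19_16, sw_19_16', sw_19_17, sw_19_17',
    sw_19_18, sw_19_18', sw_20_12, sw_20_12', sw_20_13, sw_20_13', sw_20_14, sw_20_14', sw_20_15,
    sw_20_15', sw_20_16, sw_20_16', sw_20_17, sw_20_17', sw_20_18, sw_20_18', sw_20_19, sw_20_19',
    sw_21_12, sw_21_12', sw_21_13, sw_21_13', sw_21_14, sw_21_14', sw_21_15, sw_21_15', sw_21_16,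
    sw_21_16', sw_21_17, sw_21_17', sw_21_18, sw_21_18', sw_21_19, sw_21_19', sw_21_20, sw_21_20',
    sw_22_12, sw_22_12', sw_22_13, sw_22_13', sw_22_14, sw_22_14', sw_22_15, sw_22_15', sw_22_16,
    sw_22_16', sw_22_17, sw_22_17', sw_22_18, sw_22_18', sw_22_19, sw_22_19', sw_22_20, sw_22_20',
    sw_22_21, sw_22_21', sw_23_12, sw_23_12', sw_23_13, sw_23_13', sw_23_14, sw_23_14', sw_23_15,
    sw_23_15', sw_23_16, sw_23_16', sw_23_17, sw_23_17', sw_23_18, sw_23_18', sw_23_19, sw_23_19',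
    sw_23_20, sw_23_20', sw_23_21, sw_23_21', sw_23_22, sw_23_22',
    x_add, x_add']
    simp only [map_add, neg_add]
  · exact x_add (by norm_num) s t

theorem el_zero (k : Fin 6) : el hq hK k 0 = 1 := by
  have e := el_add hq hK k 0 0
  rw [add_zero] at e
  exact mul_eq_left.mp e

theorem el_fix (k : Fin 6) {t : K} (ht : t ∈ pars hq hK k) : el hq hK k t ∈ (SS).fix := by
  fin_cases k
  · exact (long_fix hq hK (r := 23) (by norm_num) (by decide +kernel) ht).1
  · exact (long_fix hq hK (r := 22) (by norm_num) (by decide +kernel) ht).1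
  · exact C_fix hq hK t
  · exact B_fix hq hK t
  · exact A_fix hq hK t
  · exact (long_fix hq hK (r := 14) (by norm_num) (by decide +kernel) ht).1

/-- The roots of the families. -/
def rts : Fin 6 → List ℕ := ![[23], [22], [17, 20, 21], [15, 16, 19], [12, 13, 18], [14]]

/-- The roots of the higher families. -/
def below (k : Fin 6) : List ℕ := (List.finRange 6).flatMap fun i => if i < k then rts i else []

theorem el_pos (k : Fin 6) (t : K) :
    el hq hK k t ∈ (TT).rootGen K (· ∈ rts k) := by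
  have hx : ∀ (L : List ℕ) (r : ℕ), r < 24 → r ∈ L → ∀ t : K, xx r t ∈ (TT).rootGen K (· ∈ L) :=
    fun L r hr h t => xU_mem_rootGen (P := (· ∈ L)) hr h t
  fin_cases k
  · exact hx _ _ (by norm_num) (by decide) _
  · exact hx _ _ (by norm_num) (by decide) _
  · exact mul_mem (hx _ _ (by norm_num) (by decide) _)
      (mul_mem (hx _ _ (by norm_num) (by decide) _) (hx _ _ (by norm_num) (by decide) _))
  · exact mul_mem (hx _ _ (by norm_num) (by decide) _)
      (mul_mem (hx _ _ (by norm_num) (by decide) _) (hx _ _ (by norm_num) (by decide) _))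
  · exact mul_mem (hx _ _ (by norm_num) (by decide) _)
      (mul_mem (hx _ _ (by norm_num) (by decide) _) (hx _ _ (by norm_num) (by decide) _))
  · exact hx _ _ (by norm_num) (by decide) _

/-- The subgroup of the families before `k`. -/
noncomputable def Hl (k : ℕ) : Subgroup (GL (Data.D4.tbl).I K) :=
  Subgroup.closure {g | ∃ i : Fin 6, i.val < k ∧ ∃ s ∈ pars hq hK i, g = el hq hK i s}

theorem el_mem_Hl {k : ℕ} {i : Fin 6} (hi : i.val < k) {s : K} (hs : s ∈ pars hq hK i) :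
    el hq hK i s ∈ Hl hq hK k :=
  Subgroup.subset_closure ⟨i, hi, s, hs, rfl⟩

theorem el_indep (k : Fin 6) {t : K} (h : el hq hK k t ∈ Hl hq hK k.val) : t = 0 := by
  have hle : Hl hq hK k.val ≤ (TT).rootGen K (fun r => r ∈ below k ∧ 12 ≤ r) := by
    refine (Subgroup.closure_le _).mpr ?_
    rintro g ⟨i, hi, s, -, rfl⟩
    refine rootGen_mono (fun r _ hr => ?_) (el_pos hq hK i s)
    have key : ∀ k i : Fin 6, i < k → ∀ r ∈ rts i, r ∈ below k ∧ 12 ≤ r := by decide +kernel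
    exact key k i hi r hr
  have hcl : ∀ k : Fin 6, ((below k).all fun r => (below k).all fun s =>
      decide (s = r) || decide (s = (TT).neg r) || ((TT).commT r s).all fun c => decide (c.1 ∈ below k)) = true := by
    decide +kernel
  have hh : (TT).half = 12 := by decide +kernel
  obtain ⟨f, hf⟩ := exists_gprod Data.D4.valid Data.D4.chkComm (P := (· ∈ below k))
    (fun r _ s _ hr hs hne hneg c hc => by
      have h := hcl k
      simp only [List.all_eq_true, Bool.or_eq_true, decide_eq_true_eq] at h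
      rcases h r hr s hs with (h | h) | h
      · exact absurd h hne
      · exact absurd h hneg
      · exact h c hc) 12 12 (by decide +kernel) hh.le _ (hle h)
  set f' : ℕ → K := fun r => if r ∈ below k then f r else 0 with hf'
  have hfil : ∀ (L : List ℕ), (∀ r ∈ L, r < 24) →
      (TT).gprod ((L.filter fun r => decide (r ∈ below k)).map fun r => (r, f r)) =
        (TT).gprod (L.map fun r => (r, f' r)) := by
    intro L
    induction L with
    | nil => intro _; rfl
    | cons a L ih =>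
      intro hL
      have ih' := ih fun r hr => hL r (List.mem_cons_of_mem _ hr)
      by_cases ha : a ∈ below k
      · rw [List.filter_cons_of_pos (by simpa using ha), List.map_cons, List.map_cons, gprod_cons,
          gprod_cons, ih']
        simp [hf', ha]
      · rw [List.filter_cons_of_neg (by simpa using ha), List.map_cons, gprod_cons, ih']
        simp [hf', ha, x_zero (hL a List.mem_cons_self)]
  rw [hfil _ (fun r hr => by have := (List.mem_range'_1.mp hr).2; omega)] at hf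
  have key : ∀ (r : ℕ) (v : ℕ → K), r ∈ rts k → v r = t →
      el hq hK k t = (TT).gprod ((List.range' 12 12).map fun r => (r, v r)) → t = 0 := by
    intro r v hr hv e
    have hb : ∀ k : Fin 6, ∀ r ∈ rts k, r ∉ below k ∧ r ∈ List.range' 12 12 := by decide +kernel
    have := gprod_inj Data.D4.valid Data.D4.chkComm (List.pairwise_lt_range') (fun s hs => by
      rw [List.mem_range'_1] at hs; rw [hh]; exact ⟨hs.1, hs.2⟩) v f' (e.symm.trans hf) r (hb k r hr).2
    rw [← hv, this]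
    simp [hf', (hb k r hr).1]
  fin_cases k
  · exact key 23 (fun r => if r = 23 then t else 0) (by decide) rfl (by
      simp [el, gprod, List.range', x_zero])
  · exact key 22 (fun r => if r = 22 then t else 0) (by decide) rfl (by
      simp [el, gprod, List.range', x_zero])
  · exact key 21 (fun r => if r = 17 then -σ t else if r = 20 then σ (σ t) else if r = 21 then t else 0)
      (by decide) rfl (by
        simp [el, gprod, List.range', x_zero]
        simp (discharger := omega) only [D4Sub.A, D4Sub.B, D4Sub.C, mul_assoc,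
    sw_13_12, sw_13_12', sw_14_12, sw_14_12', sw_14_13, sw_14_13', sw_15_12, sw_15_12', sw_15_13,
    sw_15_13', sw_15_14, sw_15_14', sw_16_12, sw_16_12', sw_16_13, sw_16_13', sw_16_14, sw_16_14',
    sw_16_15, sw_16_15', sw_17_12, sw_17_12', sw_17_13, sw_17_13', sw_17_14, sw_17_14', sw_17_15,
    sw_17_15', sw_17_16, sw_17_16', sw_18_12, sw_18_12', sw_18_13, sw_18_13', sw_18_14, sw_18_14',
    sw_18_15, sw_18_15', sw_18_16, sw_18_16', sw_18_17, sw_18_17', sw_19_12, sw_19_12', sw_19_13,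
    sw_19_13', sw_19_14, sw_19_14', sw_19_15, sw_19_15', sw_19_16, sw_19_16', sw_19_17, sw_19_17',
    sw_19_18, sw_19_18', sw_20_12, sw_20_12', sw_20_13, sw_20_13', sw_20_14, sw_20_14', sw_20_15,
    sw_20_15', sw_20_16, sw_20_16', sw_20_17, sw_20_17', sw_20_18, sw_20_18', sw_20_19, sw_20_19',
    sw_21_12, sw_21_12', sw_21_13, sw_21_13', sw_21_14, sw_21_14', sw_21_15, sw_21_15', sw_21_16,
    sw_21_16', sw_21_17, sw_21_17', sw_21_18, sw_21_18', sw_21_19, sw_21_19', sw_21_20, sw_21_20',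
    sw_22_12, sw_22_12', sw_22_13, sw_22_13', sw_22_14, sw_22_14', sw_22_15, sw_22_15', sw_22_16,
    sw_22_16', sw_22_17, sw_22_17', sw_22_18, sw_22_18', sw_22_19, sw_22_19', sw_22_20, sw_22_20',
    sw_22_21, sw_22_21', sw_23_12, sw_23_12', sw_23_13, sw_23_13', sw_23_14, sw_23_14', sw_23_15,
    sw_23_15', sw_23_16, sw_23_16', sw_23_17, sw_23_17', sw_23_18, sw_23_18', sw_23_19, sw_23_19',
    sw_23_20, sw_23_20', sw_23_21, sw_23_21', sw_23_22, sw_23_22',
    x_add, x_add'])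
  · exact key 19 (fun r => if r = 15 then -σ (σ t) else if r = 16 then -σ t else if r = 19 then t else 0)
      (by decide) rfl (by
        simp [el, gprod, List.range', x_zero]
        simp (discharger := omega) only [D4Sub.A, D4Sub.B, D4Sub.C, mul_assoc,
    sw_13_12, sw_13_12', sw_14_12, sw_14_12', sw_14_13, sw_14_13', sw_15_12, sw_15_12', sw_15_13,
    sw_15_13', sw_15_14, sw_15_14', sw_16_12, sw_16_12', sw_16_13, sw_16_13', sw_16_14, sw_16_14',
    sw_16_15, sw_16_15', sw_17_12, sw_17_12', sw_17_13, sw_17_13', sw_17_14, sw_17_14', sw_17_15,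
    sw_17_15', sw_17_16, sw_17_16', sw_18_12, sw_18_12', sw_18_13, sw_18_13', sw_18_14, sw_18_14',
    sw_18_15, sw_18_15', sw_18_16, sw_18_16', sw_18_17, sw_18_17', sw_19_12, sw_19_12', sw_19_13,
    sw_19_13', sw_19_14, sw_19_14', sw_19_15, sw_19_15', sw_19_16, sw_19_16', sw_19_17, sw_19_17',
    sw_19_18, sw_19_18', sw_20_12, sw_20_12', sw_20_13, sw_20_13', sw_20_14, sw_20_14', sw_20_15,
    sw_20_15', sw_20_16, sw_20_16', sw_20_17, sw_20_17', sw_20_18, sw_20_18', sw_20_19, sw_20_19',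
    sw_21_12, sw_21_12', sw_21_13, sw_21_13', sw_21_14, sw_21_14', sw_21_15, sw_21_15', sw_21_16,
    sw_21_16', sw_21_17, sw_21_17', sw_21_18, sw_21_18', sw_21_19, sw_21_19', sw_21_20, sw_21_20',
    sw_22_12, sw_22_12', sw_22_13, sw_22_13', sw_22_14, sw_22_14', sw_22_15, sw_22_15', sw_22_16,
    sw_22_16', sw_22_17, sw_22_17', sw_22_18, sw_22_18', sw_22_19, sw_22_19', sw_22_20, sw_22_20',
    sw_22_21, sw_22_21', sw_23_12, sw_23_12', sw_23_13, sw_23_13', sw_23_14, sw_23_14', sw_23_15,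
    sw_23_15', sw_23_16, sw_23_16', sw_23_17, sw_23_17', sw_23_18, sw_23_18', sw_23_19, sw_23_19',
    sw_23_20, sw_23_20', sw_23_21, sw_23_21', sw_23_22, sw_23_22',
    x_add, x_add'])
  · exact key 18 (fun r => if r = 12 then σ (σ t) else if r = 13 then σ t else if r = 18 then t else 0)
      (by decide) rfl (by
        simp [el, gprod, List.range', x_zero]
        simp (discharger := omega) only [D4Sub.A, D4Sub.B, D4Sub.C, mul_assoc,
    sw_13_12, sw_13_12', sw_14_12, sw_14_12', sw_14_13, sw_14_13', sw_15_12, sw_15_12', sw_15_13,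
    sw_15_13', sw_15_14, sw_15_14', sw_16_12, sw_16_12', sw_16_13, sw_16_13', sw_16_14, sw_16_14',
    sw_16_15, sw_16_15', sw_17_12, sw_17_12', sw_17_13, sw_17_13', sw_17_14, sw_17_14', sw_17_15,
    sw_17_15', sw_17_16, sw_17_16', sw_18_12, sw_18_12', sw_18_13, sw_18_13', sw_18_14, sw_18_14',
    sw_18_15, sw_18_15', sw_18_16, sw_18_16', sw_18_17, sw_18_17', sw_19_12, sw_19_12', sw_19_13,
    sw_19_13', sw_19_14, sw_19_14', sw_19_15, sw_19_15', sw_19_16, sw_19_16', sw_19_17, sw_19_17',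
    sw_19_18, sw_19_18', sw_20_12, sw_20_12', sw_20_13, sw_20_13', sw_20_14, sw_20_14', sw_20_15,
    sw_20_15', sw_20_16, sw_20_16', sw_20_17, sw_20_17', sw_20_18, sw_20_18', sw_20_19, sw_20_19',
    sw_21_12, sw_21_12', sw_21_13, sw_21_13', sw_21_14, sw_21_14', sw_21_15, sw_21_15', sw_21_16,
    sw_21_16', sw_21_17, sw_21_17', sw_21_18, sw_21_18', sw_21_19, sw_21_19', sw_21_20, sw_21_20',
    sw_22_12, sw_22_12', sw_22_13, sw_22_13', sw_22_14, sw_22_14', sw_22_15, sw_22_15', sw_22_16,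
    sw_22_16', sw_22_17, sw_22_17', sw_22_18, sw_22_18', sw_22_19, sw_22_19', sw_22_20, sw_22_20',
    sw_22_21, sw_22_21', sw_23_12, sw_23_12', sw_23_13, sw_23_13', sw_23_14, sw_23_14', sw_23_15,
    sw_23_15', sw_23_16, sw_23_16', sw_23_17, sw_23_17', sw_23_18, sw_23_18', sw_23_19, sw_23_19',
    sw_23_20, sw_23_20', sw_23_21, sw_23_21', sw_23_22, sw_23_22',
    x_add, x_add'])
  · exact key 14 (fun r => if r = 14 then t else 0) (by decide) rfl (by
      simp [el, gprod, List.range', x_zero])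

/-- The commutator rule of two families. -/
theorem el_rule {j k : Fin 6} (hjk : j < k) {t u : K} (ht : t ∈ pars hq hK k) (hu : u ∈ pars hq hK j) :
    ∃ r ∈ Hl hq hK j.val, el hq hK j u * el hq hK k t = el hq hK k t * el hq hK j u * r := by
  have h14 : ∀ {s}, s ∈ pars hq hK (5 : Fin 6) → σ s = s := fun h => h
  have hm : ∀ {n : ℕ} (i : Fin 6) (s : K), i.val < n → s ∈ pars hq hK i → el hq hK i s ∈ Hl hq hK n :=
    fun i s hi hs => el_mem_Hl hq hK hi hs
  have hT : ∀ x : K, σ (x + σ x + σ (σ x)) = x + σ x + σ (σ x) := fun x => by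
    simp only [map_add, h3 hq hK]; abel
  obtain ⟨cB14, cC14, -, c22A, -, c22B, -, c22C, -, -⟩ := commutes hq hK u t
  obtain ⟨-, -, c2314, -, c23A, -, c23B, -, c23C, c2322⟩ := commutes hq hK u t
  fin_cases j <;> fin_cases k <;> first | (exact absurd hjk (by decide)) | skip
  · exact ⟨1, one_mem _, by rw [mul_one]; exact c2322.eq⟩
  · exact ⟨1, one_mem _, by rw [mul_one]; exact c23C.eq⟩
  · exact ⟨1, one_mem _, by rw [mul_one]; exact c23B.eq⟩
  · exact ⟨1, one_mem _, by rw [mul_one]; exact c23A.eq⟩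
  · exact ⟨1, one_mem _, by rw [mul_one]; exact c2314.eq⟩
  · exact ⟨1, one_mem _, by rw [mul_one]; exact c22C.eq⟩
  · exact ⟨1, one_mem _, by rw [mul_one]; exact c22B.eq⟩
  · exact ⟨1, one_mem _, by rw [mul_one]; exact c22A.eq⟩
  · refine ⟨xx 23 (-(t * u)), hm 0 _ (by decide) ?_, ?_⟩
    · show σ (-(t * u)) = -(t * u)
      rw [map_neg, map_mul, h14 ht, show σ u = u from hu]
    · show xx 22 u * xx 14 t = xx 14 t * xx 22 u * _
      rw [x22_x14, mul_assoc]
  · refine ⟨xx 23 (-Lq hq hK u t), hm 0 _ (by decide) ?_, ?_⟩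
    · show σ (-Lq hq hK u t) = -Lq hq hK u t
      simp only [RingHom.id_apply, Lq, map_neg, map_add, map_mul, h3 hq hK]; ring
    · show C hq hK u * B hq hK t = B hq hK t * C hq hK u * _
      rw [C_B, mul_assoc]
  · refine ⟨xx 22 (-Lq hq hK u t), hm 1 _ (by decide) ?_, ?_⟩
    · show σ (-Lq hq hK u t) = -Lq hq hK u t
      simp only [RingHom.id_apply, Lq, map_neg, map_add, map_mul, h3 hq hK]; ring
    · show C hq hK u * A hq hK t = A hq hK t * C hq hK u * _
      rw [C_A, mul_assoc]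
  · exact ⟨1, one_mem _, by rw [mul_one]; exact cC14.eq⟩
  · refine ⟨C hq hK (-(σ t * u + σ u * t)) *
      (xx 22 (u * σ t * σ (σ t) + σ u * σ (σ t) * t + σ (σ u) * t * σ t) *
        xx 23 (t * σ u * σ (σ u) + σ t * σ (σ u) * u + σ (σ t) * u * σ u)),
      mul_mem (hm 2 _ (by decide) trivial) (mul_mem (hm 1 _ (by decide) ?_) (hm 0 _ (by decide) ?_)), ?_⟩
    · show σ _ = _
      simp only [RingHom.id_apply, map_add, map_mul, h3 hq hK]; ring
    · show σ _ = _
      simp only [RingHom.id_apply, map_add, map_mul, h3 hq hK]; ring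
    · show B hq hK u * A hq hK t = A hq hK t * B hq hK u * _
      rw [B_A]; simp only [mul_assoc]
  · exact ⟨1, one_mem _, by rw [mul_one]; exact cB14.eq⟩
  · refine ⟨B hq hK (-(u * t)) * (C hq hK (u * σ u * t) *
      (xx 22 (-(t * Nq hq hK u)) * xx 23 (2 * t * t * Nq hq hK u))),
      mul_mem (hm 3 _ (by decide) trivial) (mul_mem (hm 2 _ (by decide) trivial)
        (mul_mem (hm 1 _ (by decide) ?_) (hm 0 _ (by decide) ?_))), ?_⟩
    · show σ _ = _
      simp only [Nq, map_neg, map_mul, h3 hq hK, h14 ht, RingHom.id_apply]; ring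
    · show σ _ = _
      simp only [Nq, map_ofNat, map_mul, h3 hq hK, h14 ht, RingHom.id_apply]; ring
    · show A hq hK u * xx 14 t = xx 14 t * A hq hK u * _
      rw [A_x14 hq hK u t (h14 ht)]; simp only [mul_assoc]

/-- The six families generate the fixed positive part. -/
theorem Hl_eq : Hl hq hK 6 = TwistMultiplier.posFix (Twist.D4.setup hq hK) := by
  classical
  have hh : (TT).half = 12 := by decide +kernel
  refine Subgroup.eq_of_le_of_card_ge ((Subgroup.closure_le _).mpr ?_) ?_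
  · rintro g ⟨i, -, s, hs, rfl⟩
    refine Subgroup.mem_inf.mpr ⟨el_fix hq hK i hs, rootGen_mono (fun r _ hr => ?_) (el_pos hq hK i s)⟩
    rw [hh]
    have key : ∀ i : Fin 6, ∀ r ∈ rts i, 12 ≤ r := by decide
    exact key i r hr
  · have step : ∀ k : Fin 6, Nat.card ↥(pars hq hK k) * Nat.card ↥(Hl hq hK k.val) ≤
        Nat.card ↥(Hl hq hK (k.val + 1)) := by
      intro k
      have hle : Hl hq hK k.val ≤ Hl hq hK (k.val + 1) :=
        Subgroup.closure_mono fun g ⟨i, hi, h⟩ => ⟨i, Nat.lt_succ_of_lt hi, h⟩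
      rw [← Nat.card_prod]
      refine Nat.card_le_card_of_injective
        (fun p : ↥(pars hq hK k) × ↥(Hl hq hK k.val) =>
          (⟨el hq hK k p.1 * p.2.1, mul_mem (el_mem_Hl hq hK (Nat.lt_succ_self _) p.1.2) (hle p.2.2)⟩ :
            ↥(Hl hq hK (k.val + 1)))) ?_
      intro p p' e
      have e' : el hq hK k p.1 * p.2.1 = el hq hK k p'.1 * p'.2.1 := congrArg Subtype.val e
      have e1 : el hq hK k ((p'.1 : K) + -(p.1 : K)) ∈ Hl hq hK k.val := by
        rw [add_comm, ← el_add]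
        have e2 : el hq hK k (-(p.1 : K)) = (el hq hK k (p.1 : K))⁻¹ :=
          eq_inv_of_mul_eq_one_left (by rw [el_add, neg_add_cancel, el_zero])
        rw [e2, show (el hq hK k (p.1 : K))⁻¹ * el hq hK k (p'.1 : K) = p.2.1 * p'.2.1⁻¹ by
          rw [inv_mul_eq_iff_eq_mul, ← mul_assoc, e', mul_inv_cancel_right]]
        exact mul_mem p.2.2 (inv_mem p'.2.2)
      have h0 := el_indep hq hK k e1
      have h1 : p.1 = p'.1 := Subtype.ext (by
        rw [← sub_eq_add_neg, sub_eq_zero] at h0; exact h0.symm)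
      rw [h1] at e'
      exact Prod.ext h1 (Subtype.ext (mul_left_cancel e'))
    have hF : Nat.card ↥(fF hq hK) = q := by
      have h := Twist.D4.hcard hq hK 0 (show 0 < 2 by norm_num)
      rw [show ((Twist.D4.setup hq hK).Ss.getD 0 []).length = 1 from rfl, pow_one] at h
      exact (Nat.card_congr (Equiv.subtypeEquivRight fun t => Iff.rfl)).trans h
    have hT : Nat.card ↥(⊤ : Subfield K) = q ^ 3 :=
      (Nat.card_congr Subfield.topEquiv.toEquiv).trans hK
    have hP : Nat.card ↥(TwistMultiplier.posFix (Twist.D4.setup hq hK)) = q ^ 12 := by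
      have h := ((Twist.D4.setup hq hK).card_Upos (Twist.D4.hcard hq hK)).1
      rw [posUnipotent_rootGen Data.D4.valid, hh, inf_comm] at h
      rw [TwistMultiplier.posFix, hh]
      exact h
    have hpos : 1 ≤ Nat.card ↥(Hl hq hK 0) := Nat.card_pos
    have s0 : q ≤ Nat.card ↥(Hl hq hK 1) := by
      refine le_trans ?_ (step 0)
      rw [show Nat.card ↥(pars hq hK 0) = q from hF]
      exact Nat.le_mul_of_pos_right _ hpos
    have s1 := le_trans (Nat.mul_le_mul (le_of_eq (show q = Nat.card ↥(pars hq hK 1) from hF.symm)) s0) (step 1)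
    have s2 := le_trans (Nat.mul_le_mul (le_of_eq (show q ^ 3 = Nat.card ↥(pars hq hK 2) from hT.symm)) s1) (step 2)
    have s3 := le_trans (Nat.mul_le_mul (le_of_eq (show q ^ 3 = Nat.card ↥(pars hq hK 3) from hT.symm)) s2) (step 3)
    have s4 := le_trans (Nat.mul_le_mul (le_of_eq (show q ^ 3 = Nat.card ↥(pars hq hK 4) from hT.symm)) s3) (step 4)
    have s5 := le_trans (Nat.mul_le_mul (le_of_eq (show q = Nat.card ↥(pars hq hK 5) from hF.symm)) s4) (step 5)
    rw [hP]
    exact le_trans (le_of_eq (by ring)) s5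

/-- The torus parameter. -/
def tf (q : ℕ) (c d : Kˣ) : Fin (Data.D4.tbl).rank → Kˣ :=
  fun i => if i.val = 0 then c else if i.val = 1 then d else if i.val = 2 then c ^ q else (c ^ q) ^ q

/-- The torus elements. -/
noncomputable def tor (q : ℕ) (c d : Kˣ) : GL (Data.D4.tbl).I K :=
  torusHom Data.D4.tbl K (tf q c d)

/-- The weights. -/
noncomputable def wt (q : ℕ) (c d : Kˣ) : Fin 6 → Kˣ :=
  ![d, c * c ^ q * (c ^ q) ^ q * d⁻¹, c * c ^ q * ((c ^ q) ^ q)⁻¹,
    c * d * (c ^ q)⁻¹ * ((c ^ q) ^ q)⁻¹, c * c * d⁻¹, c⁻¹ * d * d * (c ^ q)⁻¹ * ((c ^ q) ^ q)⁻¹]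

include hq hK in
theorem tor_fix {c d : Kˣ} (hd : d ^ q = d) : tor q c d ∈ (SS).fix := by
  have : tor q c d ∈ Data.D4.tbl.datum.diagonalSubgroup K ⊓ (SS).fix := by
    rw [Twist.D4.diag_fix hq hK]
    exact ⟨tf q c d, (Twist.D4.mem_tauFix hq hK).mpr ⟨hd, rfl, rfl⟩, rfl⟩
  exact this.2

theorem tCh_tf (c d : Kˣ) (r : ℕ) : CoxeterTorus.tCh TT (tf q c d) r =
    c ^ (TT).ca 0 r * d ^ (TT).ca 1 r * (c ^ q) ^ (TT).ca 2 r * ((c ^ q) ^ q) ^ (TT).ca 3 r := by
  show (∏ i : Fin 4, tf q c d i ^ (TT).ca i r) = _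
  rw [Fin.prod_univ_four]
  rfl

theorem tor_el (c d : Kˣ) (hd : d ^ q = d) (k : Fin 6) (t : K) :
    tor q c d * el hq hK k t = el hq hK k ((wt q c d k : K) * t) * tor q c d := by
  have hu : ((c ^ q) ^ q) ^ q = c := Twist.D4.units_pow_cube hq hK c
  have hval : ∀ (u : Kˣ) (x : K), σ ((u : K) * x) = ((u ^ q : Kˣ) : K) * σ x := fun u x => by
    rw [map_mul, Units.val_pow_eq_pow_val, Twist.D4.fq_apply]
  have hx : ∀ (r : ℕ) (hr : r < 24) (w : Kˣ), CoxeterTorus.tCh TT (tf q c d) r = w → ∀ x : K,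
      tor q c d * xx r x = xx r ((w : K) * x) * tor q c d := fun r hr w e x => by
    subst e; exact CoxeterTorus.torus_xU Data.D4.valid (tf q c d) ⟨r, hr⟩ x
  have tri : ∀ (a b e : ℕ) (x y z : K) (wa wb we : Kˣ), a < 24 → b < 24 → e < 24 →
      CoxeterTorus.tCh TT (tf q c d) a = wa → CoxeterTorus.tCh TT (tf q c d) b = wb →
      CoxeterTorus.tCh TT (tf q c d) e = we →
      tor q c d * (xx a x * (xx b y * xx e z)) =
        xx a ((wa : K) * x) * (xx b ((wb : K) * y) * xx e ((we : K) * z)) * tor q c d := by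
    intro a b e x y z wa wb we ha hb he ea eb ee
    rw [← mul_assoc, hx a ha wa ea, mul_assoc, ← mul_assoc (tor q c d), hx b hb wb eb,
      mul_assoc (xx b _), hx e he we ee]
    simp only [mul_assoc]
  have ca : ∀ r ∈ [12, 13, 14, 15, 16, 17, 18, 19, 20, 21, 22, 23], ∀ i : Fin 4, (TT).ca i.val r =
      ([[0, -1, 0, 2], [0, -1, 2, 0], [-1, 2, -1, -1], [-1, 1, -1, 1], [-1, 1, 1, -1], [-1, 0, 1, 1],
        [2, -1, 0, 0], [1, 1, -1, -1], [1, 0, -1, 1], [1, 0, 1, -1], [1, -1, 1, 1], [0, 1, 0, 0]].getD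
          (r - 12) []).getD i.val 0 := by decide +kernel
  have val : ∀ r ∈ [12, 13, 14, 15, 16, 17, 18, 19, 20, 21, 22, 23], CoxeterTorus.tCh TT (tf q c d) r =
      c ^ (([[0, -1, 0, 2], [0, -1, 2, 0], [-1, 2, -1, -1], [-1, 1, -1, 1], [-1, 1, 1, -1], [-1, 0, 1, 1],
        [2, -1, 0, 0], [1, 1, -1, -1], [1, 0, -1, 1], [1, 0, 1, -1], [1, -1, 1, 1], [0, 1, 0, 0]].getD
          (r - 12) []).getD 0 (0 : ℤ)) *
      d ^ (([[0, -1, 0, 2], [0, -1, 2, 0], [-1, 2, -1, -1], [-1, 1, -1, 1], [-1, 1, 1, -1], [-1, 0, 1, 1],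
        [2, -1, 0, 0], [1, 1, -1, -1], [1, 0, -1, 1], [1, 0, 1, -1], [1, -1, 1, 1], [0, 1, 0, 0]].getD
          (r - 12) []).getD 1 (0 : ℤ)) *
      (c ^ q) ^ (([[0, -1, 0, 2], [0, -1, 2, 0], [-1, 2, -1, -1], [-1, 1, -1, 1], [-1, 1, 1, -1], [-1, 0, 1, 1],
        [2, -1, 0, 0], [1, 1, -1, -1], [1, 0, -1, 1], [1, 0, 1, -1], [1, -1, 1, 1], [0, 1, 0, 0]].getD
          (r - 12) []).getD 2 (0 : ℤ)) *
      ((c ^ q) ^ q) ^ (([[0, -1, 0, 2], [0, -1, 2, 0], [-1, 2, -1, -1], [-1, 1, -1, 1], [-1, 1, 1, -1], [-1, 0, 1, 1],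
        [2, -1, 0, 0], [1, 1, -1, -1], [1, 0, -1, 1], [1, 0, 1, -1], [1, -1, 1, 1], [0, 1, 0, 0]].getD
          (r - 12) []).getD 3 (0 : ℤ)) := fun r hr => by
    have e0 := ca r hr 0
    have e1 := ca r hr 1
    have e2 := ca r hr 2
    have e3 := ca r hr 3
    simp only [Fin.val_zero, Fin.val_one, Fin.val_two] at e0 e1 e2
    rw [show ((3 : Fin 4).val) = 3 from rfl] at e3
    rw [tCh_tf, e0, e1, e2, e3]
  fin_cases k
  · exact hx 23 (by norm_num) d (by rw [val 23 (by decide)]; simp) t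
  · exact hx 22 (by norm_num) _ (by
      rw [val 22 (by decide)]; simp [wt, mul_comm, mul_assoc, mul_left_comm]) t
  · show tor q c d * C hq hK t = C hq hK (_ * t) * tor q c d
    simp only [D4Sub.C]
    rw [tri 21 17 20 _ _ _ _ _ _ (by norm_num) (by norm_num) (by norm_num) (val 21 (by decide))
      (val 17 (by decide)) (val 20 (by decide))]
    simp only [hval]
    simp [wt, hval, mul_pow, inv_pow, hu, hd, mul_comm, mul_assoc, mul_left_comm]
  · show tor q c d * B hq hK t = B hq hK (_ * t) * tor q c d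
    simp only [D4Sub.B]
    rw [tri 19 16 15 _ _ _ _ _ _ (by norm_num) (by norm_num) (by norm_num) (val 19 (by decide))
      (val 16 (by decide)) (val 15 (by decide))]
    simp only [hval]
    simp [wt, hval, mul_pow, inv_pow, hu, hd, mul_comm, mul_assoc, mul_left_comm]
  · show tor q c d * A hq hK t = A hq hK (_ * t) * tor q c d
    simp only [D4Sub.A]
    rw [tri 18 13 12 _ _ _ _ _ _ (by norm_num) (by norm_num) (by norm_num) (val 18 (by decide))
      (val 13 (by decide)) (val 12 (by decide))]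
    simp only [hval]
    simp [wt, hval, mul_pow, inv_pow, hu, hd, mul_comm, mul_assoc, mul_left_comm, pow_two]
  · exact hx 14 (by norm_num) _ (by
      rw [val 14 (by decide)]; simp [wt, pow_two, mul_comm, mul_assoc, mul_left_comm]) t

theorem wt_mem (c d : Kˣ) (hd : d ^ q = d) (k : Fin 6) : ((wt q c d k : Kˣ) : K) ∈ pars hq hK k := by
  have hu : ((c ^ q) ^ q) ^ q = c := Twist.D4.units_pow_cube hq hK c
  have hf : ∀ u : Kˣ, u ^ q = u → ((u : Kˣ) : K) ∈ fF hq hK := fun u h => by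
    rw [mem_fF, Twist.D4.fq_apply, ← Units.val_pow_eq_pow_val, h]
  fin_cases k
  · exact hf _ hd
  · refine hf (wt q c d 1) ?_
    simp [wt, mul_pow, inv_pow, hu, hd, mul_comm, mul_assoc, mul_left_comm]
  · trivial
  · trivial
  · trivial
  · refine hf (wt q c d 5) ?_
    simp [wt, mul_pow, inv_pow, hu, hd, mul_comm, mul_assoc, mul_left_comm]

end CfsgLib.KnownA.D4Multiplier
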