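import Cfsg.Agent.Lib.KnownA.D4Multiplier.Central
import Cfsg.Agent.Lib.KnownA.D4Multiplier.Roots
import Cfsg.Agent.Lib.KnownA.D4Sub.Field
import Mathlib.Algebra.Polynomial.Roots
import Mathlib.FieldTheory.Finite.Basic

/-!
The pairings of the root families of ³D₄(q) in a central extension.
-/

set_option autoImplicit false
set_option maxRecDepth 20000
set_option maxHeartbeats 800000
set_option linter.all false
set_option Elab.async false

namespace CfsgLib.KnownA.D4Multiplier

open CfsgLib.Chevalley CfsgLib.Chevalley.Tbl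

/-- An element avoiding the roots of a nonzero polynomial of small degree. -/
theorem exists_avoid {F : Type*} [Field F] [Finite F] {p : Polynomial F} (hp : p ≠ 0)
    (h : p.natDegree < Nat.card F) : ∃ x : F, p.eval x ≠ 0 := by
  classical
  haveI := Fintype.ofFinite F
  by_contra h'
  push Not at h'
  have hsub : (Finset.univ : Finset F) ⊆ p.roots.toFinset := fun x _ => by
    rw [Multiset.mem_toFinset, Polynomial.mem_roots hp]
    exact h' x
  have := (Finset.card_le_card hsub).trans ((Multiset.toFinset_card_le _).trans p.card_roots')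
  rw [Finset.card_univ, ← Nat.card_eq_fintype_card] at this
  omega

/-- A square whose successor is a square, not a primitive cube root of unity. -/
theorem exists_square_pair {F : Type*} [Field F] [Finite F] (h8 : 8 ≤ Nat.card F)
    (hodd : (2 : F) ≠ 0 → 13 < Nat.card F) :
    ∃ v w : F, v ≠ 0 ∧ w ≠ 0 ∧ 1 + v ^ 2 = w ^ 2 ∧ (v ^ 2) ^ 2 + v ^ 2 + 1 ≠ 0 := by
  by_cases h2 : (2 : F) = 0
  · obtain ⟨v, hv⟩ := exists_avoid (p := (Polynomial.X * (Polynomial.X + 1) * (Polynomial.X ^ 2 + Polynomial.X + 1) : Polynomial F))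
      (by
        refine mul_ne_zero (mul_ne_zero Polynomial.X_ne_zero ?_) ?_ <;>
          · intro h
            simpa using congrArg (Polynomial.eval 0) h)
      (by
        refine lt_of_le_of_lt (?_ : _ ≤ 4) (by omega)
        compute_degree)
    simp only [Polynomial.eval_mul, Polynomial.eval_add, Polynomial.eval_pow, Polynomial.eval_X,
      Polynomial.eval_one, mul_ne_zero_iff] at hv
    obtain ⟨⟨h0, h1⟩, h3⟩ := hv
    refine ⟨v, v + 1, h0, h1, by linear_combination (-v) * h2, ?_⟩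
    have : (v ^ 2) ^ 2 + v ^ 2 + 1 = (v ^ 2 + v + 1) ^ 2 := by
      linear_combination (-(v ^ 3) - v ^ 2 - v) * h2
    rw [this]
    exact pow_ne_zero 2 h3
  · obtain ⟨s, hs⟩ := exists_avoid (p := (Polynomial.X * ((Polynomial.X ^ 2 - 1) * ((Polynomial.X ^ 2 + 1) *
      ((Polynomial.X ^ 2 - 1) ^ 4 + 4 * Polynomial.X ^ 2 * (Polynomial.X ^ 2 - 1) ^ 2 + 16 * Polynomial.X ^ 4))) : Polynomial F))
      (by
        refine mul_ne_zero Polynomial.X_ne_zero (mul_ne_zero ?_ (mul_ne_zero ?_ ?_)) <;>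
          · intro h
            simpa using congrArg (Polynomial.eval 0) h)
      (by
        refine lt_of_le_of_lt (?_ : _ ≤ 13) (hodd h2)
        compute_degree)
    simp only [Polynomial.eval_mul, Polynomial.eval_add, Polynomial.eval_sub, Polynomial.eval_pow,
      Polynomial.eval_X, Polynomial.eval_one, Polynomial.eval_ofNat, mul_ne_zero_iff] at hs
    obtain ⟨h0, h1, h3, h4⟩ := hs
    refine ⟨(s ^ 2 - 1) / (2 * s), (s ^ 2 + 1) / (2 * s), div_ne_zero h1 (mul_ne_zero h2 h0),
      div_ne_zero h3 (mul_ne_zero h2 h0), by field_simp; ring, fun h => h4 ?_⟩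
    field_simp at h
    linear_combination h

variable {K : Type*} [Field K] [Finite K] {q : ℕ} (hq : IsPrimePow q) (hK : Nat.card K = q ^ 3)

local notation "TT" => Data.D4.tbl
local notation "xx" => Data.D4.tbl.xU K
local notation "σ" => Twist.D4.fq hq hK
local notation "SS" => AbSetup.S (Twist.D4.setup hq hK)

/-- The norm on units. -/
def Nu (q : ℕ) (c : Kˣ) : Kˣ := c * c ^ q * (c ^ q) ^ q

include hq hK in
theorem Nu_fix (c : Kˣ) : Nu q c ^ q = Nu q c := by
  rw [Nu, mul_pow, mul_pow, Twist.D4.units_pow_cube hq hK c]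
  rw [mul_comm (c ^ q * (c ^ q) ^ q) c, mul_assoc]

theorem wt_eqs (c d : Kˣ) :
    wt q c d 0 = d ∧ wt q c d 1 = Nu q c * d⁻¹ ∧
      wt q c d 2 = Nu q c * ((c ^ q) ^ q * (c ^ q) ^ q)⁻¹ ∧ wt q c d 3 = c * c * d * (Nu q c)⁻¹ ∧
      wt q c d 4 = c * c * d⁻¹ ∧ wt q c d 5 = d * d * (Nu q c)⁻¹ := by
  refine ⟨rfl, rfl, ?_, ?_, rfl, ?_⟩ <;>
    · show (_ : Kˣ) = _
      apply Units.ext
      simp [wt, Nu]
      try field_simp

include hq hK in
theorem exists_units : ∃ g n : Kˣ, g * g ≠ 1 ∧ g * g * (Nu q g)⁻¹ ≠ 1 ∧ (3 ≤ q → Nu q g ≠ 1) ∧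
    Nu q n = 1 ∧ n * n ≠ 1 := by
  have h2 : 2 ≤ q := hq.two_le
  obtain ⟨g, hg⟩ := IsCyclic.exists_ofOrder_eq_natCard (α := Kˣ)
  rw [Nat.card_units, hK] at hg
  have hN : Nu q g = g ^ (1 + q + q * q) := by rw [Nu, pow_add, pow_add, pow_one, pow_mul]
  have h3 : q * q * 2 ≤ q ^ 3 := by
    rw [pow_succ, pow_two]; exact Nat.mul_le_mul_left _ h2
  have h4 : q * 2 ≤ q * q := Nat.mul_le_mul_left _ h2
  have hinj : ∀ {a b : ℕ}, a ≤ q ^ 3 - 2 → b ≤ q ^ 3 - 2 → g ^ a = g ^ b → a = b := fun {a b} ha hb h =>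
    pow_injOn_Iio_orderOf (Set.mem_Iio.2 (by omega)) (Set.mem_Iio.2 (by omega)) h
  refine ⟨g, g ^ (q - 1), fun h => ?_, fun h => ?_, fun h3q h => ?_, ?_, fun h => ?_⟩
  · have := hinj (a := 2) (b := 0) (by omega) (by omega) (by rw [pow_two, pow_zero]; exact h)
    omega
  · rw [mul_inv_eq_one, ← pow_two, hN] at h
    rcases Nat.lt_or_ge (1 + q + q * q) (q ^ 3 - 1) with h' | h'
    · have := hinj (a := 2) (b := 1 + q + q * q) (by omega) (by omega) h
      omega
    · have e : 1 + q + q * q = q ^ 3 - 1 := by omega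
      rw [e, ← hg, pow_orderOf_eq_one] at h
      have := hinj (a := 2) (b := 0) (by omega) (by omega) (by rw [h, pow_zero])
      omega
  · have : q * q * 3 ≤ q ^ 3 := by rw [pow_succ, pow_two]; exact Nat.mul_le_mul_left _ h3q
    have := hinj (a := 1 + q + q * q) (b := 0) (by omega) (by omega) (by rw [← hN, h, pow_zero])
    omega
  · rw [Nu, ← pow_mul, ← pow_mul, ← pow_add, ← pow_add]
    have e : (q - 1) + (q - 1) * q + (q - 1) * q * q = q ^ 3 - 1 := by
      obtain ⟨m, rfl⟩ : ∃ m, q = m + 1 := ⟨q - 1, by omega⟩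
      simp only [Nat.add_sub_cancel]
      rw [eq_comm, Nat.sub_eq_iff_eq_add (Nat.one_le_pow _ _ (by omega))]
      ring
    rw [e, ← hg, pow_orderOf_eq_one]
  · rw [← pow_add] at h
    have := hinj (a := q - 1 + (q - 1)) (b := 0) (by omega) (by omega) (by rw [h, pow_zero])
    omega

theorem tor_comm (c d c' d' : Kˣ) : tor q c d * tor q c' d' = tor q c' d' * tor q c d := by
  rw [tor, tor, ← map_mul, ← map_mul, mul_comm]

theorem el_comm (k : Fin 6) (s t : K) : Commute (el hq hK k s) (el hq hK k t) := by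
  show el hq hK k s * el hq hK k t = el hq hK k t * el hq hK k s
  rw [el_add, el_add, add_comm]

/-- Central extensions of ³D₄(q), given by a map to matrices. -/
structure Cext {E : Type*} [Group E] (π : E →* GL (Data.D4.tbl).I K) : Prop where
  ker_le : π.ker ≤ Subgroup.center E
  range_eq : π.range = (AbSetup.S (Twist.D4.setup hq hK)).fix

variable {hq hK} {E : Type*} [Group E] {π : E →* GL (Data.D4.tbl).I K} (X : Cext hq hK π)
include X

theorem Cext.lift {g : GL (TT).I K} (hg : g ∈ (SS).fix) : ∃ e, π e = g :=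
  MonoidHom.mem_range.1 (X.range_eq ▸ hg)

theorem Cext.lift_el (k : Fin 6) {t : K} (ht : t ∈ pars hq hK k) : ∃ e, π e = el hq hK k t :=
  X.lift (el_fix hq hK k ht)

/-- Two commuting families, one fixed and one moved by a torus element, have commuting lifts. -/
theorem Cext.cross {j k : Fin 6}
    (hc : ∀ s ∈ pars hq hK j, ∀ t ∈ pars hq hK k, Commute (el hq hK j s) (el hq hK k t)) {c d : Kˣ}
    (hd : d ^ q = d) (hw : wt q c d j = 1 ∧ wt q c d k ≠ 1 ∨ wt q c d k = 1 ∧ wt q c d j ≠ 1)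
    {s t : K} (hs : s ∈ pars hq hK j) (ht : t ∈ pars hq hK k) {a b : E} (ha : π a = el hq hK j s)
    (hb : π b = el hq hK k t) : Commute a b := by
  obtain ⟨h, hh⟩ := X.lift (tor_fix hq hK hd (c := c))
  refine pair_commute X.ker_le (fun s _ t _ => el_add hq hK j s t) (fun s _ t _ => el_add hq hK k s t) hc
    (fun s hs => X.lift_el j hs) (fun s hs => X.lift_el k hs) h _ _ (wt_mem hq hK c d hd j)
    (wt_mem hq hK c d hd k) (fun s _ => by rw [hh]; exact tor_el hq hK c d hd j s)
    (fun s _ => by rw [hh]; exact tor_el hq hK c d hd k s) ?_ hs ht ha hb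
  simpa only [ne_eq, Units.val_eq_one] using hw

/-- The lifts of a short root family commute. -/
theorem Cext.short_commute {k : Fin 6} (hk : k = 2 ∨ k = 3 ∨ k = 4) {s t : K} {a b : E}
    (ha : π a = el hq hK k s) (hb : π b = el hq hK k t) : Commute a b := by
  have h2 : 2 ≤ q := hq.two_le
  have h8 : 8 ≤ Nat.card K := by rw [hK]; exact le_trans (by norm_num) (Nat.pow_le_pow_left h2 3)
  have hodd : (2 : K) ≠ 0 → 13 < Nat.card K := fun h => by
    rcases Nat.lt_or_ge q 3 with h3 | h3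
    · exfalso
      obtain rfl : q = 2 := by omega
      haveI := Fintype.ofFinite K
      apply h
      have e : ((Fintype.card K : ℕ) : K) = 0 := FiniteField.cast_card_eq_zero K
      rw [← Nat.card_eq_fintype_card, hK, Nat.cast_pow, Nat.cast_ofNat] at e
      exact pow_eq_zero_iff (n := 3) (by norm_num) |>.1 e
    · rw [hK]; exact lt_of_lt_of_le (by norm_num) (Nat.pow_le_pow_left h3 3)
  obtain ⟨v, w, hv, hw, hvw, hr⟩ := exists_square_pair h8 hodd
  have htop : ∀ x : K, x ∈ pars hq hK k := fun x => by rcases hk with rfl | rfl | rfl <;> trivial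
  refine square_commute X.ker_le (el_add hq hK k) (fun s => X.lift_el k (htop s)) (fun l hl => ?_)
    hv hw hvw hr ha hb
  have u3 : ∀ x : Kˣ, ((x ^ q) ^ q) ^ q = x := Twist.D4.units_pow_cube hq hK
  set u := Units.mk0 l hl with hu
  have key : ∃ c d : Kˣ, d ^ q = d ∧ wt q c d k = u * u := by
    rcases hk with rfl | rfl | rfl
    · refine ⟨u * (u ^ q) ^ q, 1, one_pow q, ?_⟩
      rw [(wt_eqs _ _).2.2.1, Nu]
      simp only [mul_pow, u3]
      rw [mul_inv_eq_iff_eq_mul]
      simp only [mul_comm, mul_assoc, mul_left_comm]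
    · refine ⟨u, Nu q u, Nu_fix hq hK u, ?_⟩
      rw [(wt_eqs _ _).2.2.2.1, mul_inv_cancel_right]
    · refine ⟨u, 1, one_pow q, ?_⟩
      rw [(wt_eqs _ _).2.2.2.2.1, inv_one, mul_one]
  obtain ⟨c, d, hd, e⟩ := key
  obtain ⟨h, hh⟩ := X.lift (tor_fix hq hK hd (c := c))
  refine ⟨h, fun s => ?_⟩
  rw [hh, tor_el hq hK c d hd k s, e, Units.val_mul, hu, Units.val_mk0, pow_two]

omit X in
theorem exists_trace_ne : ∃ t : K, t + σ t + σ (σ t) ≠ 0 := by
  have h2 : 2 ≤ q := hq.two_le
  obtain ⟨t, ht⟩ := exists_avoid (p := (Polynomial.X + Polynomial.X ^ q + Polynomial.X ^ (q * q) : Polynomial K))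
    (fun h => by
      have := congrArg (Polynomial.coeff · 1) h
      simp only [Polynomial.coeff_add, Polynomial.coeff_X_one, Polynomial.coeff_X_pow, Polynomial.coeff_zero] at this
      rw [if_neg (by omega), if_neg (by nlinarith)] at this
      simp at this)
    (by
      rw [hK]
      refine lt_of_le_of_lt (?_ : _ ≤ q * q) (by nlinarith)
      refine (Polynomial.natDegree_add_le _ _).trans (max_le ((Polynomial.natDegree_add_le _ _).trans
        (max_le ?_ ?_)) ?_)
      · exact Polynomial.natDegree_X_le.trans (by nlinarith)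
      · rw [Polynomial.natDegree_X_pow]; exact Nat.le_mul_self q
      · rw [Polynomial.natDegree_X_pow])
  refine ⟨t, ?_⟩
  simp only [Polynomial.eval_add, Polynomial.eval_pow, Polynomial.eval_X] at ht
  rwa [Twist.D4.fq_apply, Twist.D4.fq_apply, ← pow_mul]

/-- The lifts of a long root family commute. -/
theorem Cext.long_commute {k : Fin 6} (hk : k = 0 ∨ k = 1 ∨ k = 5) {s t : K} (hs : s ∈ pars hq hK k)
    (ht : t ∈ pars hq hK k) {a b : E} (ha : π a = el hq hK k s) (hb : π b = el hq hK k t) :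
    Commute a b := by
  obtain ⟨g, n, -, -, -, hn, hn2⟩ := exists_units hq hK
  have hw := wt_eqs (q := q) n (1 : Kˣ)
  have hc2 : wt q n 1 2 ≠ 1 := by
    rw [hw.2.2.1, hn, one_mul, inv_ne_one]
    intro h
    apply hn2
    have e := congrArg (· ^ q) h
    simp only [mul_pow, one_pow, Twist.D4.units_pow_cube hq hK] at e
    exact e
  have hc3 : wt q n 1 3 ≠ 1 := by rw [hw.2.2.2.1, hn, inv_one, mul_one, mul_one]; exact hn2
  have hz : ∀ {s t : K}, s ∈ pars hq hK 0 → t ∈ pars hq hK 0 → ∀ {a b : E}, π a = el hq hK 0 s →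
      π b = el hq hK 0 t → Commute a b := by
    intro s t hs ht a b ha hb
    obtain ⟨t1, ht1⟩ := exists_trace_ne (hq := hq) (hK := hK)
    have hT : σ (t1 + σ t1 + σ (σ t1)) = t1 + σ t1 + σ (σ t1) := by
      simp only [map_add, D4Sub.h3 hq hK]; abel
    set x := -t / (t1 + σ t1 + σ (σ t1))
    have hx : σ x = x := by
      simp only [x, map_div₀, map_neg, hT]
      rw [show σ t = t from ht]
    obtain ⟨eB, heB⟩ := X.lift_el 3 (t := 1) trivial
    obtain ⟨eC, heC⟩ := X.lift_el 2 (t := x * t1) trivial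
    have hcb : eC * eB = eB * eC * ((eB * eC)⁻¹ * (eC * eB)) := by group
    have hL : -Lq hq hK (x * t1) 1 = t := by
      simp only [Lq, map_one, one_mul, map_mul, hx]
      rw [show -(x * σ t1 + x * σ (σ t1) + x * t1) = -(x * (t1 + σ t1 + σ (σ t1))) by ring]
      simp only [x, div_mul_cancel₀ _ ht1, neg_neg]
    have himg : π ((eB * eC)⁻¹ * (eC * eB)) = π b := by
      rw [map_mul, map_inv, map_mul, map_mul, heB, heC, hb]
      show (D4Sub.B hq hK 1 * D4Sub.C hq hK (x * t1))⁻¹ * (D4Sub.C hq hK (x * t1) * D4Sub.B hq hK 1) = xx 23 t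
      rw [C_B, hL, inv_mul_eq_iff_eq_mul, mul_assoc]
    refine commute_congr X.ker_le rfl himg.symm ?_
    have h1 : Commute a eB := X.cross (j := 0) (k := 3)
      (fun s _ t _ => (commutes hq hK s t).2.2.2.2.2.2.1) (one_pow q) (Or.inl ⟨hw.1, hc3⟩) hs trivial ha heB
    have h2 : Commute a eC := X.cross (j := 0) (k := 2)
      (fun s _ t _ => (commutes hq hK s t).2.2.2.2.2.2.2.2.1) (one_pow q) (Or.inl ⟨hw.1, hc2⟩) hs trivial ha heC
    exact (h1.mul_right h2).inv_right.mul_right (h2.mul_right h1)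
  have h22 : ∀ {s t : K}, s ∈ pars hq hK 1 → t ∈ pars hq hK 1 → ∀ {a b : E}, π a = el hq hK 1 s →
      π b = el hq hK 1 t → Commute a b := by
    intro s t hs ht a b ha hb
    obtain ⟨n', hn'⟩ := X.lift (D4Sub.n14_fix hq hK)
    have key : ∀ {u : K}, u ∈ pars hq hK 1 → ∀ {c : E}, π c = el hq hK 1 u →
        ∃ c', π c' = el hq hK 0 (-u) ∧ π c = π (n' * c' * n'⁻¹) := by
      intro u hu c hc
      obtain ⟨c', hc'⟩ := X.lift_el 0 (t := -u) (neg_mem hu)
      refine ⟨c', hc', ?_⟩
      rw [map_mul, map_mul, map_inv, hn', hc', hc, eq_mul_inv_iff_mul_eq]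
      show xx 22 u * _ = D4Sub.n14 * xx 23 (-u)
      rw [D4Sub.n14_x (s' := 22) (e := -1) (by norm_num) (by decide +kernel) (by decide +kernel)]
      norm_num
    obtain ⟨a', ha', ea⟩ := key hs ha
    obtain ⟨b', hb', eb⟩ := key ht hb
    exact commute_congr X.ker_le ea eb ((Commute.conj_iff n').mpr (hz (neg_mem hs) (neg_mem ht) ha' hb'))
  rcases hk with rfl | rfl | rfl
  · exact hz hs ht ha hb
  · exact h22 hs ht ha hb
  · obtain ⟨n', hn'⟩ := X.lift (D4Sub.nA_fix hq hK)
    have key : ∀ {u : K}, u ∈ pars hq hK 5 → ∀ {c : E}, π c = el hq hK 5 u →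
        ∃ c', π c' = el hq hK 1 u ∧ π c = π (n' * c' * n'⁻¹) := by
      intro u hu c hc
      obtain ⟨c', hc'⟩ := X.lift_el 1 (t := u) hu
      refine ⟨c', hc', ?_⟩
      rw [map_mul, map_mul, map_inv, hn', hc', hc, eq_mul_inv_iff_mul_eq]
      show xx 14 u * _ = D4Sub.nA * xx 22 u
      rw [D4Sub.nA_x (s₁ := (TT).refl 3 22) (s₂ := (TT).refl 2 ((TT).refl 3 22)) (s₃ := 14) (e := 1)
        (by norm_num) (by decide +kernel) (by decide +kernel)]
      simp
    obtain ⟨a', ha', ea⟩ := key hs ha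
    obtain ⟨b', hb', eb⟩ := key ht hb
    exact commute_congr X.ker_le ea eb ((Commute.conj_iff n').mpr (h22 hs ht ha' hb'))

end CfsgLib.KnownA.D4Multiplier
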