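import Cfsg.Agent.Lib.KnownA.D4Multiplier.Common

/-!
The preimage of the positive part of ³D₄(q), q ≥ 3, in a central extension: its commutators meet the kernel
trivially.
-/

set_option autoImplicit false
set_option maxRecDepth 20000
set_option maxHeartbeats 800000
set_option linter.all false
set_option Elab.async false

namespace CfsgLib.KnownA.D4Multiplier

open CfsgLib.Chevalley CfsgLib.Chevalley.Tbl
open scoped commutatorElement

variable {K : Type*} [Field K] [Finite K] {q : ℕ} {hq : IsPrimePow q} {hK : Nat.card K = q ^ 3}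
  {E : Type*} [Group E] {π : E →* GL (Data.D4.tbl).I K} (X : Cext hq hK π)
include X

/-- The lifts of each family commute. -/
theorem Cext.same_commute (k : Fin 6) {s t : K} (hs : s ∈ pars hq hK k) (ht : t ∈ pars hq hK k) {a b : E}
    (ha : π a = el hq hK k s) (hb : π b = el hq hK k t) : Commute a b := by
  have hk : ∀ k : Fin 6, (k = 0 ∨ k = 1 ∨ k = 5) ∨ (k = 2 ∨ k = 3 ∨ k = 4) := by decide
  rcases hk k with h | h
  · exact X.long_commute h hs ht ha hb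
  · exact X.short_commute h ha hb

/-- The commutators of the preimage of the positive part meet the kernel trivially. -/
theorem Cext.pos_trivial_large (h3 : 3 ≤ q) {z : E} (hz : π z = 1)
    (hd : z ∈ (commutator ((TwistMultiplier.posFix (Twist.D4.setup hq hK)).comap π)).map
      ((TwistMultiplier.posFix (Twist.D4.setup hq hK)).comap π).subtype) : z = 1 := by
  classical
  obtain ⟨g, n, hg2, hgN, hδ', hn, hn2⟩ := exists_units hq hK
  have hδ := hδ' h3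
  set δ := Nu q g with hδdef
  have hfδ : δ ^ q = δ := Nu_fix hq hK g
  have hfδ2 : (δ * δ) ^ q = δ * δ := by rw [mul_pow, hfδ]
  have hNδ : Nu q δ = δ * δ * δ := by rw [Nu, hfδ, hfδ]
  have hN1 : Nu q (1 : Kˣ) = 1 := by simp [Nu]
  have hn2' : ((n ^ q) ^ q) * ((n ^ q) ^ q) ≠ 1 := by
    intro h
    apply hn2
    have e := congrArg (· ^ q) h
    simp only [mul_pow, one_pow, Twist.D4.units_pow_cube hq hK] at e
    exact e
  let ι := {p : Kˣ × Kˣ // p.2 ^ q = p.2}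
  let W : ι → Fin 6 → Kˣ := fun i k => wt q i.1.1 i.1.2 k
  let T : ∀ (c d : Kˣ), d ^ q = d → ι := fun c d h => ⟨(c, d), h⟩
  have hW : ∀ c d h, W (T c d h) 0 = d ∧ W (T c d h) 1 = Nu q c * d⁻¹ ∧
      W (T c d h) 2 = Nu q c * ((c ^ q) ^ q * (c ^ q) ^ q)⁻¹ ∧ W (T c d h) 3 = c * c * d * (Nu q c)⁻¹ ∧
      W (T c d h) 4 = c * c * d⁻¹ ∧ W (T c d h) 5 = d * d * (Nu q c)⁻¹ := fun c d h => wt_eqs c d
  have o1 : (1 : Kˣ) ^ q = 1 := one_pow q
  -- the six moving elements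
  have hmove : ∀ k, ∃ i, W i k ≠ 1 := by
    intro k
    fin_cases k
    · exact ⟨T 1 δ hfδ, ((hW 1 δ hfδ).1).trans_ne hδ⟩
    · exact ⟨T 1 δ hfδ, ((hW 1 δ hfδ).2.1.trans (by rw [hN1, one_mul])).trans_ne (inv_ne_one.2 hδ)⟩
    · exact ⟨T n 1 o1, ((hW n 1 o1).2.2.1.trans (by rw [hn, one_mul])).trans_ne (inv_ne_one.2 hn2')⟩
    · exact ⟨T n 1 o1, ((hW n 1 o1).2.2.2.1.trans (by rw [hn, inv_one, mul_one, mul_one])).trans_ne hn2⟩
    · exact ⟨T n 1 o1, ((hW n 1 o1).2.2.2.2.1.trans (by rw [inv_one, mul_one])).trans_ne hn2⟩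
    · exact ⟨T g δ hfδ, ((hW g δ hfδ).2.2.2.2.2.trans (by rw [← hδdef, mul_inv_cancel_right])).trans_ne hδ⟩
  have hkill : ∀ j k, j < k → ∃ i, W i j = 1 ∧ W i k ≠ 1 ∨ W i k = 1 ∧ W i j ≠ 1 := by
    intro j k hjk
    obtain ⟨a0, a1, a2, a3, a4, a5⟩ := hW g 1 o1
    obtain ⟨b0, b1, b2, b3, b4, b5⟩ := hW g δ hfδ
    obtain ⟨c0, c1, c2, c3, c4, c5⟩ := hW 1 δ hfδ
    obtain ⟨d0, d1, d2, d3, d4, d5⟩ := hW δ δ hfδ
    obtain ⟨e0, e1, e2, e3, e4, e5⟩ := hW δ (δ * δ) hfδ2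
    obtain ⟨f0, f1, f2, f3, f4, f5⟩ := hW n 1 o1
    rw [← hδdef] at a1 a2 a3 a5 b1 b2 b3 b5
    rw [hN1] at c1 c2 c3 c5
    rw [hNδ] at d1 d2 d3 d5 e1 e2 e3 e5
    rw [hn] at f1 f2 f3 f5
    simp only [one_mul, mul_one, inv_one, one_pow] at a0 a1 a3 a4 a5 c0 c1 c2 c3 f1 f2 f3 f4 f5
    rw [mul_inv_cancel] at b1
    rw [mul_inv_cancel_right] at b3 b5
    rw [mul_inv_cancel] at d3 e4
    have e2' : W (T δ (δ * δ) hfδ2) 2 = δ := by
      rw [e2, hfδ, hfδ, mul_comm (δ * δ) δ, mul_inv_cancel_right]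
    have e3' : W (T δ (δ * δ) hfδ2) 3 = δ := by
      rw [e3, mul_inv_eq_iff_eq_mul]; simp only [mul_comm, mul_assoc, mul_left_comm]
    fin_cases j <;> fin_cases k <;> first | (exact absurd hjk (by decide)) | skip
    · exact ⟨T g 1 o1, Or.inl ⟨a0, a1.trans_ne hδ⟩⟩
    · exact ⟨T 1 δ hfδ, Or.inr ⟨c2, c0.trans_ne hδ⟩⟩
    · exact ⟨T δ δ hfδ, Or.inr ⟨d3, d0.trans_ne hδ⟩⟩
    · exact ⟨T g 1 o1, Or.inl ⟨a0, a4.trans_ne hg2⟩⟩
    · exact ⟨T g 1 o1, Or.inl ⟨a0, a5.trans_ne (inv_ne_one.2 hδ)⟩⟩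
    · exact ⟨T 1 δ hfδ, Or.inr ⟨c2, c1.trans_ne (inv_ne_one.2 hδ)⟩⟩
    · exact ⟨T g δ hfδ, Or.inl ⟨b1, b3.trans_ne hg2⟩⟩
    · exact ⟨T g δ hfδ, Or.inl ⟨b1, b4.trans_ne hgN⟩⟩
    · exact ⟨T g δ hfδ, Or.inl ⟨b1, b5.trans_ne hδ⟩⟩
    · exact ⟨T 1 δ hfδ, Or.inl ⟨c2, c3.trans_ne hδ⟩⟩
    · exact ⟨T δ (δ * δ) hfδ2, Or.inr ⟨e4, e2'.trans_ne hδ⟩⟩
    · exact ⟨T n 1 o1, Or.inr ⟨f5, f2.trans_ne (inv_ne_one.2 hn2')⟩⟩
    · exact ⟨T δ (δ * δ) hfδ2, Or.inr ⟨e4, e3'.trans_ne hδ⟩⟩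
    · exact ⟨T n 1 o1, Or.inr ⟨f5, f3.trans_ne hn2⟩⟩
    · exact ⟨T n 1 o1, Or.inr ⟨f5, f4.trans_ne hn2⟩⟩
  choose i0 hi0 using hmove
  choose a ha using fun i : ι => X.lift (tor_fix hq hK i.2 (c := i.1.1))
  let l : Fin 6 → K → E := fun k t => if h : t ∈ pars hq hK k then (X.lift_el k h).choose else 1
  have hl : ∀ k, ∀ t ∈ pars hq hK k, π (l k t) = el hq hK k t := fun k t h => by
    simp only [l, dif_pos h]; exact (X.lift_el k h).choose_spec
  let m : Fin 6 → K := fun k => (W (i0 k) k : K) - 1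
  have hm : ∀ k, m k ≠ 0 := fun k => sub_ne_zero.2 fun h => hi0 k (Units.val_eq_one.1 h)
  have hmP : ∀ k, ∀ t ∈ pars hq hK k, t / m k ∈ pars hq hK k := fun k t ht =>
    div_mem ht (sub_mem (wt_mem hq hK _ _ (i0 k).2 k) (one_mem _))
  let y : Fin 6 → K → E := fun k t => ⁅a (i0 k), l k (t / m k)⁆
  have himg : ∀ k, ∀ t ∈ pars hq hK k, π (y k t) = el hq hK k t := by
    intro k t ht
    rw [map_commutatorElement, ha, hl k _ (hmP k t ht), commutatorElement_def, tor_el hq hK _ _ (i0 k).2,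
      mul_inv_cancel_right, mul_inv_eq_iff_eq_mul, el_add]
    congr 1
    have hm' := hm k
    show (W (i0 k) k : K) * (t / m k) = t + t / m k
    field_simp
    simp only [m]
    ring
  have hsys : Sys (pars hq hK) (el hq hK) y a (fun i k => (W i k : K)) π := by
    refine ⟨X.ker_le, himg, ?_, ?_, fun i k => wt_mem hq hK _ _ i.2 k, ?_, ?_, ?_⟩
    · intro k s hs t ht
      have hs' := hmP k s hs
      have ht' := hmP k t ht
      have hc : Commute (l k (s / m k)) ⁅a (i0 k), l k (t / m k)⁆ :=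
        X.same_commute k hs' ht (hl k _ hs') (himg k t ht)
      show ⁅a (i0 k), l k (s / m k)⁆ * ⁅a (i0 k), l k (t / m k)⁆ = ⁅a (i0 k), l k ((s + t) / m k)⁆
      rw [bracket_congr X.ker_le (a' := a (i0 k)) (b' := l k (s / m k) * l k (t / m k)) rfl
        (b := l k ((s + t) / m k)) (by
          rw [map_mul, hl k _ hs', hl k _ ht', el_add, hl k _ (hmP k _ (add_mem hs ht)), add_div])]
      rw [show ⁅a (i0 k), l k (s / m k) * l k (t / m k)⁆ = ⁅a (i0 k), l k (s / m k)⁆ *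
          (l k (s / m k) * ⁅a (i0 k), l k (t / m k)⁆ * (l k (s / m k))⁻¹) by
        simp only [commutatorElement_def]; group]
      rw [hc.eq, mul_inv_cancel_right]
    · intro i k t ht
      show a i * ⁅a (i0 k), l k (t / m k)⁆ * (a i)⁻¹ = ⁅a (i0 k), l k ((W i k : K) * t / m k)⁆
      have hw : (W i k : K) * t ∈ pars hq hK k := mul_mem (wt_mem hq hK _ _ i.2 k) ht
      rw [conj_bracket X.ker_le]
      refine bracket_congr X.ker_le ?_ ?_
      · rw [map_mul, map_mul, map_inv, ha, ha, tor_comm, mul_inv_cancel_right]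
      · rw [map_mul, map_mul, map_inv, ha, hl k _ (hmP k t ht), hl k _ (hmP k _ hw),
          tor_el hq hK _ _ i.2, mul_inv_cancel_right, mul_div_assoc]
    · exact fun j k hjk t ht u hu => el_rule hq hK hjk ht hu
    · exact fun k t _ h => el_indep hq hK k h
    · intro j k hjk
      obtain ⟨i, hi⟩ := hkill j k hjk
      exact ⟨i, by simpa only [ne_eq, Units.val_eq_one] using hi⟩
  refine commutator_inf_ker X.ker_le (hsys.inf_ker 6 le_rfl) ?_ hz hd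
  rw [← Hl_eq, ← hsys.Gl_eq]
  exact le_rfl

end CfsgLib.KnownA.D4Multiplier
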