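import Cfsg.Agent.Lib.KnownA.D4Multiplier.Common

/-!
The preimage of the positive part of ³D₄(2) in a central extension: its commutators meet the kernel trivially.
-/

set_option autoImplicit false
set_option maxRecDepth 20000
set_option maxHeartbeats 800000
set_option linter.all false
set_option Elab.async false

namespace CfsgLib.KnownA.D4Multiplier

open CfsgLib.Chevalley CfsgLib.Chevalley.Tbl
open scoped commutatorElement
open CfsgLib.KnownA.D4Sub (x_add x_zero x_inv)

section Group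

variable {G : Type*} [Group G]

theorem mem_normalizer_of_conj [Finite G] (H : Subgroup G) {x : G} (h : ∀ a ∈ H, x * a * x⁻¹ ∈ H) :
    x ∈ Subgroup.normalizer (H : Set G) := by
  have hle : H.map (MulAut.conj x).toMonoidHom ≤ H := by
    rintro _ ⟨a, ha, rfl⟩; exact h a ha
  have heq := Subgroup.eq_of_le_of_card_ge hle
    (Nat.card_congr (H.equivMapOfInjective _ (MulAut.conj x).injective).toEquiv).le
  refine Subgroup.mem_normalizer_iff.mpr fun a => ⟨h a, fun ha => ?_⟩
  have ha' : x * a * x⁻¹ ∈ H.map (MulAut.conj x).toMonoidHom := heq.symm ▸ ha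
  obtain ⟨b, hb, e⟩ := ha'
  obtain rfl : b = a := (MulAut.conj x).injective e
  exact hb

theorem card_sup_le [Finite G] (H L : Subgroup G) (hn : L ≤ Subgroup.normalizer (H : Set G)) :
    Nat.card ↥(H ⊔ L) ≤ Nat.card ↥H * Nat.card ↥L := by
  rw [← Nat.card_prod]
  refine Nat.card_le_card_of_surjective (fun p : ↥H × ↥L =>
    (⟨p.1.1 * p.2.1, mul_mem (Subgroup.mem_sup_left p.1.2) (Subgroup.mem_sup_right p.2.2)⟩ : ↥(H ⊔ L))) ?_
  rintro ⟨x, hx⟩
  have hx' : x ∈ (↑(H ⊔ L) : Set G) := hx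
  rw [Subgroup.coe_mul_of_right_le_normalizer_left H L hn] at hx'
  obtain ⟨a, ha, b, hb, e⟩ := hx'
  exact ⟨(⟨a, ha⟩, ⟨b, hb⟩), Subtype.ext e⟩

theorem card_zpowers_le_two {x : G} (h : x * x = 1) : Nat.card ↥(Subgroup.zpowers x) ≤ 2 := by
  rw [Nat.card_zpowers]
  exact orderOf_le_of_pow_eq_one (by norm_num) (by rw [pow_two, h])

/-- Commuting up to a central involution: the order of the group generated. -/
theorem card_almost_elementary [Finite G] {z : G} (hz : z * z = 1) : ∀ L : List G, (∀ x ∈ L, Commute x z) →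
    (∀ x ∈ L, x * x ∈ Subgroup.zpowers z) → (∀ x ∈ L, ∀ y ∈ L, x * y * x⁻¹ * y⁻¹ ∈ Subgroup.zpowers z) →
    Nat.card ↥(Subgroup.zpowers z ⊔ Subgroup.closure {x | x ∈ L}) ≤ 2 ^ (L.length + 1) := by
  intro L
  induction L with
  | nil =>
    intro _ _ _
    rw [show {x : G | x ∈ ([] : List G)} = ∅ by ext; simp, Subgroup.closure_empty, sup_bot_eq]
    simpa using card_zpowers_le_two hz
  | cons w L ih =>
    intro h1 h2 h3
    set H := Subgroup.zpowers z ⊔ Subgroup.closure {x | x ∈ L}
    have hH := ih (fun x hx => h1 x (List.mem_cons_of_mem _ hx)) (fun x hx => h2 x (List.mem_cons_of_mem _ hx))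
      (fun x hx y hy => h3 x (List.mem_cons_of_mem _ hx) y (List.mem_cons_of_mem _ hy))
    have hww : w * w ∈ H := Subgroup.mem_sup_left (h2 w List.mem_cons_self)
    have hnw : ∀ a ∈ H, w * a * w⁻¹ ∈ H := by
      intro a ha
      have hgen : H = Subgroup.closure ({z} ∪ {x | x ∈ L}) := by
        rw [Subgroup.closure_union, ← Subgroup.zpowers_eq_closure]
      rw [hgen] at ha ⊢
      induction ha using Subgroup.closure_induction with
      | mem x hx =>
        rcases hx with rfl | hx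
        · rw [(h1 w List.mem_cons_self).eq, mul_inv_cancel_right]
          exact Subgroup.subset_closure (Or.inl rfl)
        · rw [show w * x * w⁻¹ = (w * x * w⁻¹ * x⁻¹) * x by group, ← hgen]
          exact mul_mem (Subgroup.mem_sup_left (h3 w List.mem_cons_self x (List.mem_cons_of_mem _ hx)))
            (Subgroup.mem_sup_right (Subgroup.subset_closure hx))
      | one => simp
      | mul p r _ _ hp hr => simpa [mul_assoc] using mul_mem hp hr
      | inv p _ hp => simpa [mul_assoc] using inv_mem hp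
    have hnw' : ∀ a ∈ H, w⁻¹ * a * w ∈ H := fun a ha => by
      simpa using (Subgroup.mem_normalizer_iff.mp (inv_mem (mem_normalizer_of_conj H hnw)) a).mp ha
    let M : Subgroup G :=
      { carrier := {g | g ∈ H ∨ w * g ∈ H}
        one_mem' := Or.inl (one_mem _)
        mul_mem' := by
          rintro a b (ha | ha) (hb | hb)
          · exact Or.inl (mul_mem ha hb)
          · exact Or.inr (by
              rw [show w * (a * b) = (w * a * w⁻¹) * (w * b) by group]; exact mul_mem (hnw a ha) hb)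
          · exact Or.inr (by rw [← mul_assoc]; exact mul_mem ha hb)
          · exact Or.inl (by
              rw [show a * b = w⁻¹ * (w * a) * w * (w * w)⁻¹ * (w * b) by group]
              exact mul_mem (mul_mem (hnw' _ ha) (inv_mem hww)) hb)
        inv_mem' := by
          rintro a (ha | ha)
          · exact Or.inl (inv_mem ha)
          · exact Or.inr (by
              rw [show w * a⁻¹ = w * (w * a)⁻¹ * w⁻¹ * (w * w) by group]
              exact mul_mem (hnw _ (inv_mem ha)) hww) }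
    have hle : Subgroup.zpowers z ⊔ Subgroup.closure {x | x ∈ w :: L} ≤ M := by
      refine sup_le (fun x hx => Or.inl (Subgroup.mem_sup_left hx)) ((Subgroup.closure_le _).mpr ?_)
      intro x hx
      rcases List.mem_cons.mp hx with rfl | hx
      · exact Or.inr hww
      · exact Or.inl (Subgroup.mem_sup_right (Subgroup.subset_closure hx))
    refine (Nat.le_of_dvd Nat.card_pos (Subgroup.card_dvd_of_le hle)).trans ?_
    have : Nat.card ↥M ≤ Nat.card (Bool × ↥H) := by
      refine Nat.card_le_card_of_surjective (fun p : Bool × ↥H =>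
        if p.1 then (⟨p.2.1, Or.inl p.2.2⟩ : ↥M)
        else (⟨w⁻¹ * p.2.1, Or.inr (by rw [mul_inv_cancel_left]; exact p.2.2)⟩ : ↥M)) ?_
      rintro ⟨x, hx | hx⟩
      · exact ⟨(true, ⟨x, hx⟩), rfl⟩
      · exact ⟨(false, ⟨w * x, hx⟩), Subtype.ext (inv_mul_cancel_left w x)⟩
    refine this.trans ?_
    rw [Nat.card_prod, Nat.card_eq_fintype_card, Fintype.card_bool, List.length_cons, pow_succ' 2 (L.length + 1)]
    exact Nat.mul_le_mul_left 2 hH

end Group

section Coprime

variable {E Q : Type*} [Group E] [Group Q] {π : E →* Q} (hk : π.ker ≤ Subgroup.center E)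
include hk

theorem bracket_one {a b : E} (ha : π a = 1) : ⁅a, b⁆ = 1 := by
  rw [commutatorElement_eq_one_iff_commute]; exact (commute_ker hk ha b).symm

/-- Lifts of commuting elements of orders dividing 7 and 2 commute. -/
theorem commute_coprime {a b : E} (h : Commute (π a) (π b)) (ha : (π a) ^ 7 = 1) (hb : π b * π b = 1) :
    Commute a b := by
  have hc := commute_ker hk (bracket_ker hk h)
  have e2 : ⁅a, b⁆ ^ 2 = 1 := by
    rw [pow_two, ← bracket_mul_right hk h,
      commutatorElement_eq_one_iff_commute]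
    exact commute_ker hk (by rw [map_mul, hb]) a
  have hpow : ∀ k : ℕ, ⁅a ^ k, b⁆ = ⁅a, b⁆ ^ k := fun k => by
    induction k with
    | zero => simp
    | succ k ih => rw [pow_succ, bracket_mul_left hk h, ih, pow_succ']
  have e7 : ⁅a, b⁆ ^ 7 = 1 := by rw [← hpow 7]; exact bracket_one hk (by rw [map_pow, ha])
  rw [← commutatorElement_eq_one_iff_commute]
  rw [show (7 : ℕ) = 2 * 3 + 1 from rfl, pow_succ, pow_mul, e2, one_pow, one_mul] at e7
  exact e7

end Coprime

variable {K : Type*} [Field K] [Finite K] {q : ℕ} {hq : IsPrimePow q} {hK : Nat.card K = q ^ 3}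

local notation "TT" => Data.D4.tbl
local notation "xx" => Data.D4.tbl.xU K
local notation "σ" => Twist.D4.fq hq hK
local notation "SS" => AbSetup.S (Twist.D4.setup hq hK)

/-- For `q = 2` the positive part is generated by the short simple family and one long root element. -/
theorem posFix_le_two (h2 : q = 2) {H : Subgroup (GL (Data.D4.tbl).I K)}
    (hA : ∀ t, D4Sub.A hq hK t ∈ H) (h14 : xx 14 1 ∈ H)
    (htor : ∀ c : Kˣ, ∀ g ∈ H, tor q c 1 * g * (tor q c 1)⁻¹ ∈ H) :
    TwistMultiplier.posFix (Twist.D4.setup hq hK) ≤ H := by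
  have hsq : ∀ x : K, σ x = x ^ 2 := fun x => by rw [Twist.D4.fq_apply, h2]
  have hchar : (2 : K) = 0 := by
    haveI := Fintype.ofFinite K
    have e : ((Fintype.card K : ℕ) : K) = 0 := FiniteField.cast_card_eq_zero K
    rw [← Nat.card_eq_fintype_card, hK, h2, Nat.cast_pow, Nat.cast_ofNat] at e
    exact pow_eq_zero_iff (n := 3) (by norm_num) |>.1 e
  have hF : ∀ x : K, σ x = x → x = 0 ∨ x = 1 := by
    intro x hx
    rw [hsq, pow_two] at hx
    rcases eq_or_ne x 0 with h | h
    · exact Or.inl h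
    · exact Or.inr ((mul_eq_left₀ h).1 hx)
  set R : K → GL (TT).I K := fun t => D4Sub.B hq hK (-(t * 1)) * (D4Sub.C hq hK (t * σ t * 1) *
      (xx 22 (-(1 * Nq hq hK t)) * xx 23 (2 * 1 * 1 * Nq hq hK t))) with hRdef
  have hR : ∀ t, R t ∈ H := fun t => by
    have e := A_x14 hq hK t 1 (map_one _)
    rw [show R t = (D4Sub.A hq hK t)⁻¹ * (xx 14 1)⁻¹ * (D4Sub.A hq hK t * xx 14 1) by rw [e, hRdef]; group]
    exact mul_mem (mul_mem (inv_mem (hA t)) (inv_mem h14)) (mul_mem (hA t) h14)
  have cCC : ∀ (s t : K), Commute (D4Sub.C hq hK s) (D4Sub.C hq hK t) := el_comm hq hK 2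
  have c22C : ∀ (s t : K), Commute (xx 22 s) (D4Sub.C hq hK t) := fun s t => (commutes hq hK s t).2.2.2.2.2.2.2.1
  have c23C : ∀ (s t : K), Commute (xx 23 s) (D4Sub.C hq hK t) := fun s t => (commutes hq hK s t).2.2.2.2.2.2.2.2.1
  have c22A : ∀ (s t : K), Commute (xx 22 s) (D4Sub.A hq hK t) := fun s t => (commutes hq hK s t).2.2.2.1
  have c23A : ∀ (s t : K), Commute (xx 23 s) (D4Sub.A hq hK t) := fun s t => (commutes hq hK s t).2.2.2.2.1
  have c2322 : ∀ (s t : K), Commute (xx 23 s) (xx 22 t) := fun s t => (commutes hq hK s t).2.2.2.2.2.2.2.2.2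
  have c22 : ∀ (s t : K), Commute (xx 22 s) (xx 22 t) := el_comm hq hK 1
  have hX : ∀ t u : K, ∃ e g : K, σ e = e ∧ σ g = g ∧
      D4Sub.C hq hK (-(σ u * -(t * 1) + σ (-(t * 1)) * u)) * (xx 22 e * xx 23 g) ∈ H := by
    intro t u
    set b := -(t * 1)
    set e1 := b * σ u * σ (σ u) + σ b * σ (σ u) * u + σ (σ b) * u * σ u
    set g1 := u * σ b * σ (σ b) + σ u * σ (σ b) * b + σ (σ u) * b * σ b
    set c0 := t * σ t * 1
    refine ⟨e1 + -Lq hq hK c0 u, g1, ?_, ?_, ?_⟩
    · simp only [e1, Lq, map_add, map_neg, map_mul, D4Sub.h3 hq hK]; ring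
    · simp only [g1, map_add, map_mul, D4Sub.h3 hq hK]; ring
    have key : ∀ (A0 B0 C0 Z0 L0 C1 Z1 : GL (TT).I K), Commute Z0 A0 → C0 * A0 = A0 * (C0 * L0) →
        B0 * A0 = A0 * (B0 * (C1 * Z1)) → Commute (C1 * Z1) (C0 * Z0) → Commute L0 Z0 →
        B0 * (C0 * Z0) * A0 = A0 * (B0 * (C0 * Z0) * (C1 * (Z1 * L0))) := by
      intro A0 B0 C0 Z0 L0 C1 Z1 h1 h2 h3 h4 h5
      calc B0 * (C0 * Z0) * A0 = B0 * (C0 * A0) * Z0 := by simp only [mul_assoc]; rw [h1.eq]
        _ = B0 * A0 * (C0 * (L0 * Z0)) := by rw [h2]; simp only [mul_assoc]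
        _ = A0 * B0 * ((C1 * Z1) * (C0 * Z0)) * L0 := by rw [h3, h5.eq]; simp only [mul_assoc]
        _ = _ := by rw [h4.eq]; simp only [mul_assoc]
    have hmove : R t * D4Sub.A hq hK u = D4Sub.A hq hK u * (R t *
        (D4Sub.C hq hK (-(σ u * b + σ b * u)) * (xx 22 (e1 + -Lq hq hK c0 u) * xx 23 g1))) := by
      have k1 : Commute (D4Sub.C hq hK (-(σ u * b + σ b * u)) * (xx 22 e1 * xx 23 g1))
          (D4Sub.C hq hK c0 * (xx 22 (-(1 * Nq hq hK t)) * xx 23 (2 * 1 * 1 * Nq hq hK t))) := by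
        refine Commute.mul_left (Commute.mul_right (cCC _ _) (Commute.mul_right (c22C _ _).symm
          (c23C _ _).symm)) (Commute.mul_left ?_ ?_)
        · exact Commute.mul_right (c22C _ _) (Commute.mul_right (c22 _ _) (c2322 _ _).symm)
        · exact Commute.mul_right (c23C _ _) (Commute.mul_right (c2322 _ _) (el_comm hq hK 0 _ _))
      have k := key _ _ _ _ _ _ _ ((c22A (-(1 * Nq hq hK t)) u).mul_left (c23A (2 * 1 * 1 * Nq hq hK t) u))
        (C_A hq hK c0 u) (B_A hq hK b u) k1 (Commute.mul_right (c22 _ _) (c2322 _ _).symm)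
      rw [← x_add (show 22 < 24 by norm_num), mul_assoc (xx 22 e1), ← (c2322 g1 (-Lq hq hK c0 u)).eq,
        ← mul_assoc (xx 22 e1)]
      exact k
    have := mul_mem (inv_mem (hR t)) (mul_mem (inv_mem (hA u)) (mul_mem (hR t) (hA u)))
    rwa [hmove, inv_mul_cancel_left, inv_mul_cancel_left] at this
  obtain ⟨t1, ht1⟩ : ∃ t : K, t + σ t ≠ 0 := by
    obtain ⟨t, ht⟩ := exists_avoid (p := (Polynomial.X + Polynomial.X ^ 2 : Polynomial K))
      (fun h => by simpa using congrArg (Polynomial.coeff · 1) h)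
      (by
        refine lt_of_le_of_lt (?_ : _ ≤ 2) (by rw [hK, h2]; norm_num)
        compute_degree)
    simp only [Polynomial.eval_add, Polynomial.eval_pow, Polynomial.eval_X] at ht
    exact ⟨t, by rwa [hsq]⟩
  obtain ⟨e, g, he, hg, hmem⟩ := hX t1 1
  have hc1 : -(σ 1 * -(t1 * 1) + σ (-(t1 * 1)) * 1) = t1 + σ t1 := by simp; ring
  rw [hc1] at hmem
  -- the two highest long root elements
  obtain ⟨x, hx⟩ := exists_trace_ne (hq := hq) (hK := hK)
  have hsc : σ (t1 + σ t1) ≠ 0 := (map_ne_zero σ).2 ht1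
  have hL : Lq hq hK (t1 + σ t1) (x / σ (t1 + σ t1)) ≠ 0 := by
    have h' : σ (σ (t1 + σ t1)) ≠ 0 := (map_ne_zero σ).2 hsc
    simp only [Lq]
    rw [map_div₀ σ x, div_mul_cancel₀ _ hsc, div_mul_cancel₀ _ h', map_div₀ σ (σ x),
      D4Sub.h3 hq hK (t1 + σ t1), div_mul_cancel₀ _ ht1]
    exact hx
  have m22 : xx 22 1 ∈ H := by
    set s := x / σ (t1 + σ t1)
    have hfix : σ (-Lq hq hK (t1 + σ t1) s) = -Lq hq hK (t1 + σ t1) s := by
      simp only [Lq, map_neg, map_add, map_mul, D4Sub.h3 hq hK]; ring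
    have e1 : D4Sub.C hq hK (t1 + σ t1) * (xx 22 e * xx 23 g) * D4Sub.A hq hK s =
        D4Sub.A hq hK s * (D4Sub.C hq hK (t1 + σ t1) * (xx 22 e * xx 23 g) *
          xx 22 (-Lq hq hK (t1 + σ t1) s)) := by
      have k : Commute (xx 22 (-Lq hq hK (t1 + σ t1) s)) (xx 22 e * xx 23 g) :=
        Commute.mul_right (c22 _ _) (c2322 _ _).symm
      rw [mul_assoc, ((c22A e s).mul_left (c23A g s)).eq, ← mul_assoc, C_A]
      simp only [mul_assoc]
      rw [k.eq]
      simp only [mul_assoc]
    have := mul_mem (inv_mem hmem) (mul_mem (inv_mem (hA s)) (mul_mem hmem (hA s)))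
    rw [e1, inv_mul_cancel_left, inv_mul_cancel_left] at this
    rcases hF _ hfix with h | h
    · exact absurd (neg_eq_zero.1 h) hL
    · rwa [h] at this
  have m23 : xx 23 1 ∈ H := by
    have := mul_mem (inv_mem (mul_mem h14 m22)) (mul_mem m22 h14)
    rw [x22_x14, show (1 : K) * 1 = 1 from mul_one 1, show (-1 : K) = 1 by linear_combination -hchar,
      ← mul_assoc (xx 14 1), inv_mul_cancel_left] at this
    exact this
  have m22' : ∀ e, σ e = e → xx 22 e ∈ H := fun e he => by
    rcases hF e he with rfl | rfl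
    · rw [x_zero (show 22 < 24 by norm_num)]; exact one_mem _
    · exact m22
  have m23' : ∀ e, σ e = e → xx 23 e ∈ H := fun e he => by
    rcases hF e he with rfl | rfl
    · rw [x_zero (show 23 < 24 by norm_num)]; exact one_mem _
    · exact m23
  have mC1 : D4Sub.C hq hK (t1 + σ t1) ∈ H := by
    have := mul_mem hmem (inv_mem (mul_mem (m22' e he) (m23' g hg)))
    rwa [mul_inv_cancel_right] at this
  have mC : ∀ s, D4Sub.C hq hK s ∈ H := by
    intro s
    rcases eq_or_ne s 0 with rfl | hs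
    · rw [show D4Sub.C hq hK 0 = 1 from el_zero hq hK 2]; exact one_mem _
    set u : Kˣ := Units.mk0 ((t1 + σ t1) / s) (div_ne_zero ht1 hs)
    have h8 : ∀ x : Kˣ, x ^ 8 = x := fun x => Units.ext (by
      rw [Units.val_pow_eq_pow_val]
      have := Twist.D4.pow_cube hK (x : K)
      rw [h2] at this
      exact this)
    have h7 : ∀ x : Kˣ, x ^ 7 = 1 := fun x => mul_eq_right.1 (by rw [← pow_succ]; exact h8 x)
    have hw : wt q u 1 2 = u⁻¹ := by
      rw [(wt_eqs u 1).2.2.1, Nu, h2]
      rw [show u * u ^ 2 * (u ^ 2) ^ 2 = u ^ 7 by group, h7, one_mul, inv_inj,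
        show (u ^ 2) ^ 2 * (u ^ 2) ^ 2 = u ^ 8 by group, h8]
    have := htor u _ mC1
    rw [show tor q u 1 * D4Sub.C hq hK (t1 + σ t1) = D4Sub.C hq hK ((wt q u 1 2 : K) * (t1 + σ t1)) *
      tor q u 1 from tor_el hq hK u 1 (one_pow q) 2 _, mul_inv_cancel_right, hw] at this
    rwa [Units.val_inv_eq_inv_val, show ((u : K))⁻¹ * (t1 + σ t1) = s by
      simp only [u, Units.val_mk0, inv_div]; field_simp] at this
  have mB : ∀ t, D4Sub.B hq hK (-(t * 1)) ∈ H := by
    intro t
    have hN : σ (Nq hq hK t) = Nq hq hK t := by simp only [Nq, map_mul, D4Sub.h3 hq hK]; ring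
    have := mul_mem (hR t) (inv_mem (mul_mem (mC (t * σ t * 1)) (mul_mem (m22' (-(1 * Nq hq hK t)) (by simp [hN]))
      (m23' (2 * 1 * 1 * Nq hq hK t) (by simp [hN, map_ofNat])))))
    rwa [mul_inv_cancel_right] at this
  rw [← Hl_eq]
  refine (Subgroup.closure_le _).mpr ?_
  rintro _ ⟨i, -, s, hs, rfl⟩
  fin_cases i
  · exact m23' s hs
  · exact m22' s hs
  · exact mC s
  · have := mB (-s)
    rwa [mul_one, neg_neg] at this
  · exact hA s
  · rcases hF s hs with rfl | rfl
    · show el hq hK (5 : Fin 6) 0 ∈ H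
      rw [el_zero]; exact one_mem _
    · exact h14

variable {E : Type*} [Group E] [Finite E] {π : E →* GL (Data.D4.tbl).I K} (X : Cext hq hK π)
include X

/-- The commutators of the preimage of the positive part meet the kernel trivially. -/
theorem Cext.pos_trivial_two (h2 : q = 2) {z : E} (hz : π z = 1)
    (hd : z ∈ (commutator ((TwistMultiplier.posFix (Twist.D4.setup hq hK)).comap π)).map
      ((TwistMultiplier.posFix (Twist.D4.setup hq hK)).comap π).subtype) : z = 1 := by
  classical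
  haveI := Fintype.ofFinite K
  have hchar : (2 : K) = 0 := by
    have e : ((Fintype.card K : ℕ) : K) = 0 := FiniteField.cast_card_eq_zero K
    rw [← Nat.card_eq_fintype_card, hK, h2, Nat.cast_pow, Nat.cast_ofNat] at e
    exact pow_eq_zero_iff (n := 3) (by norm_num) |>.1 e
  have hadd : ∀ x : K, x + x = 0 := fun x => by linear_combination x * hchar
  have hcard : Fintype.card K = 8 := by rw [← Nat.card_eq_fintype_card, hK, h2]; norm_num
  have h7 : ∀ x : Kˣ, x ^ 7 = 1 := fun x => by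
    have h := pow_card_eq_one' (x := x)
    rwa [Nat.card_units, hK, h2] at h
  obtain ⟨-, n, -, -, -, hn, hn2⟩ := exists_units hq hK
  -- lifts
  choose l hl using fun a : K => X.lift_el (4 : Fin 6) (t := a) trivial
  obtain ⟨v, hv⟩ := X.lift_el (5 : Fin 6) (t := 1) (one_mem _)
  choose h hh using fun c : Kˣ => X.lift (tor_fix hq hK (one_pow q) (c := c) (d := 1))
  have hl0 : π (l 0) = π 1 := by rw [hl, el_zero, map_one]
  have hla : ∀ a b, π (l a * l b) = π (l (a + b)) := fun a b => by rw [map_mul, hl, hl, hl, el_add]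
  have hll : ∀ a b, Commute (l a) (l b) := fun a b => X.short_commute (k := 4) (by simp) (hl a) (hl b)
  set va : K → E := fun a => l a * v * (l a)⁻¹ with hvadef
  have va0 : va 0 = v := by
    rw [hvadef]
    show l 0 * v * (l 0)⁻¹ = v
    rw [conj_congr X.ker_le hl0 v, one_mul, inv_one, mul_one]
  have lva : ∀ a b, l a * va b * (l a)⁻¹ = va (a + b) := fun a b => by
    show l a * (l b * v * (l b)⁻¹) * (l a)⁻¹ = l (a + b) * v * (l (a + b))⁻¹
    rw [← conj_congr X.ker_le (hla a b) v]; group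
  have hx14 : xx 14 1 * xx 14 1 = 1 := by
    rw [x_add (show 14 < 24 by norm_num), hadd, x_zero (show 14 < 24 by norm_num)]
  have hvv : π (v * v) = 1 := by rw [map_mul, hv]; exact hx14
  -- commutators of two conjugates lie over the highest root group
  have hZ : ∀ a, ∃ g, σ g = g ∧ π ⁅v, va a⁆ = xx 23 g := by
    intro a
    have hnorm : (TT).rootGen K (fun r => 12 ≤ r) ≤
        Subgroup.normalizer ((TT).rootGen K (· ∈ D4Sub.upper) : Set (GL (TT).I K)) :=
      D4Sub.U_normalizer (by decide +kernel)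
    have hA : D4Sub.A hq hK a ∈ (TT).rootGen K (fun r => 12 ≤ r) :=
      rootGen_mono (fun r _ hr => by
        have : ∀ r ∈ rts 4, 12 ≤ r := by decide
        exact this r hr) (el_pos hq hK 4 a)
    have hU : ∀ i : Fin 6, i.val < 4 → ∀ t, el hq hK i t ∈ (TT).rootGen K (· ∈ D4Sub.upper) := fun i hi t =>
      rootGen_mono (fun r _ hr => by
        have : ∀ i : Fin 6, i.val < 4 → ∀ r ∈ rts i, r ∈ D4Sub.upper := by decide
        exact this i hi r hr) (el_pos hq hK i t)
    set Ra := D4Sub.B hq hK (-(a * 1)) * (D4Sub.C hq hK (a * σ a * 1) *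
      (xx 22 (-(1 * Nq hq hK a)) * xx 23 (2 * 1 * 1 * Nq hq hK a)))
    have hRa : Ra ∈ (TT).rootGen K (· ∈ D4Sub.upper) :=
      mul_mem (hU 3 (by decide) _) (mul_mem (hU 2 (by decide) _) (mul_mem (hU 1 (by decide) _) (hU 0 (by decide) _)))
    set r := D4Sub.A hq hK a * Ra * (D4Sub.A hq hK a)⁻¹ with hrdef
    obtain ⟨g, hg⟩ := D4Sub.upper_x14 ((Subgroup.mem_normalizer_iff.mp (hnorm hA) _).mp hRa) (1 : K)
    have hva : π (va a) = xx 14 1 * r := by
      show π (l a * v * (l a)⁻¹) = _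
      rw [map_mul, map_mul, map_inv, hl, hv]
      show D4Sub.A hq hK a * xx 14 1 * (D4Sub.A hq hK a)⁻¹ = _
      rw [A_x14 hq hK a 1 (map_one _), hrdef]
      simp only [Ra, mul_assoc]
    have himg : π ⁅v, va a⁆ = xx 23 (-g) := by
      rw [map_commutatorElement, hva, hv, commutatorElement_def]
      show xx 14 1 * (xx 14 1 * r) * (xx 14 1)⁻¹ * (xx 14 1 * r)⁻¹ = _
      rw [← hrdef] at hg
      have e : r * (xx 14 1)⁻¹ * r⁻¹ = (xx 23 g)⁻¹ * (xx 14 1)⁻¹ := by
        rw [show r * (xx 14 1)⁻¹ * r⁻¹ = (r * xx 14 1 * r⁻¹)⁻¹ by group, hg, mul_inv_cancel_right, mul_inv_rev]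
      rw [show xx 14 1 * (xx 14 1 * r) * (xx 14 1)⁻¹ * (xx 14 1 * r)⁻¹ =
        xx 14 1 * xx 14 1 * (r * (xx 14 1)⁻¹ * r⁻¹) * (xx 14 1)⁻¹ by group, e, hx14, one_mul,
        mul_assoc, ← mul_inv_rev, hx14, inv_one, mul_one, x_inv (show 23 < 24 by norm_num)]
    refine ⟨-g, ?_, himg⟩
    refine D4Sub.long_fix_iff hq hK (r := 23) (by norm_num) (by decide +kernel) ?_
    rw [← himg, ← X.range_eq]
    exact ⟨_, rfl⟩
  have l_top : ∀ a z g, σ g = g → π z = xx 23 g → Commute (l a) z := fun a z g hg hz =>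
    (X.cross (j := 0) (k := 4) (fun s _ t _ => (commutes hq hK s t).2.2.2.2.1) (one_pow q)
      (Or.inl ⟨(wt_eqs n 1).1, by rw [(wt_eqs n 1).2.2.2.2.1, inv_one, mul_one]; exact hn2⟩)
      hg trivial hz (hl a)).symm
  have lD : ∀ a b, l a * ⁅v, va b⁆ * (l a)⁻¹ = ⁅v, va b⁆ := fun a b => by
    obtain ⟨g, hg, hz⟩ := hZ b
    rw [(l_top a _ g hg hz).eq, mul_inv_cancel_right]
  have hcc : ∀ a b, ⁅va a, va b⁆ = ⁅v, va (a + b)⁆ := fun a b => by
    have e2 : a + (a + b) = b := by rw [← add_assoc, hadd, zero_add]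
    conv_lhs => rw [← e2, ← lva a (a + b)]
    show ⁅l a * v * (l a)⁻¹, l a * va (a + b) * (l a)⁻¹⁆ = _
    rw [← conj_bracket X.ker_le, lD]
  have htorv : ∀ c, h c * v * (h c)⁻¹ = v := fun c => by
    have hc : Commute (π (h c)) (π v) := by
      rw [hh, hv]
      show tor q c 1 * el hq hK 5 1 = el hq hK 5 1 * tor q c 1
      rw [tor_el hq hK c 1 (one_pow q) 5, (wt_eqs c 1).2.2.2.2.2]
      have : Nu q c = 1 := by
        rw [Nu, h2, show c * c ^ 2 * (c ^ 2) ^ 2 = c ^ 7 by group, h7]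
      simp [this]
    have h7' : (π (h c)) ^ 7 = 1 := by
      rw [hh, tor, ← map_pow, show tf q c (1 : Kˣ) ^ 7 = 1 from funext fun i => h7 _, map_one]
    rw [(commute_coprime X.ker_le hc h7' (by rw [← map_mul]; exact hvv)).eq, mul_inv_cancel_right]
  have htorl : ∀ c a, π (h c * l a * (h c)⁻¹) = π (l ((c : K) * c * a)) := fun c a => by
    rw [map_mul, map_mul, map_inv, hh, hl, hl, tor_el hq hK c 1 (one_pow q) 4, (wt_eqs c 1).2.2.2.2.1,
      inv_one, mul_one, Units.val_mul, mul_inv_cancel_right]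
  have hD : ∀ (c : Kˣ) a, ⁅v, va ((c : K) * c * a)⁆ = ⁅v, va a⁆ := fun c a => by
    obtain ⟨g, hg, hz⟩ := hZ a
    have e : h c * va a * (h c)⁻¹ = va ((c : K) * c * a) := by
      show h c * (l a * v * (l a)⁻¹) * (h c)⁻¹ = l ((c : K) * c * a) * v * (l ((c : K) * c * a))⁻¹
      rw [← conj_congr X.ker_le (htorl c a) v]
      rw [show h c * l a * (h c)⁻¹ * v * (h c * l a * (h c)⁻¹)⁻¹ =
        h c * l a * ((h c)⁻¹ * (v * h c)) * (l a)⁻¹ * (h c)⁻¹ by group,
        ← (show h c * v = v * h c from mul_inv_eq_iff_eq_mul.1 (htorv c)), inv_mul_cancel_left]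
      group
    have hcz : Commute (h c) ⁅v, va a⁆ := by
      refine commute_coprime X.ker_le ?_ ?_ ?_
      · rw [hh, hz]
        show tor q c 1 * el hq hK 0 g = el hq hK 0 g * tor q c 1
        rw [tor_el hq hK c 1 (one_pow q) 0, (wt_eqs c 1).1, Units.val_one, one_mul]
      · rw [hh, tor, ← map_pow, show tf q c (1 : Kˣ) ^ 7 = 1 from funext fun i => h7 _, map_one]
      · rw [hz, x_add (show 23 < 24 by norm_num), hadd, x_zero (show 23 < 24 by norm_num)]
    have := congrArg (fun t => t) (conj_bracket X.ker_le (h c) v (va a))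
    rw [htorv, e, hcz.eq, mul_inv_cancel_right] at this
    exact this.symm
  set ζ := ⁅v, va 1⁆ with hζdef
  have hDζ : ∀ a, a ≠ 0 → ⁅v, va a⁆ = ζ := by
    intro a ha
    set u := Units.mk0 a ha
    have hu8 : u ^ 8 = u := by rw [pow_succ, h7, one_mul]
    have := hD (u ^ 4) 1
    rwa [← Units.val_mul, ← pow_add, hu8, Units.val_mk0, mul_one] at this
  obtain ⟨g1, hg1, hζimg⟩ := hZ 1
  rw [← hζdef] at hζimg
  have hζl : ∀ a, Commute (l a) ζ := fun a => l_top a _ g1 hg1 hζimg
  have hεa : ∀ a, ⁅ζ, va a⁆ = ⁅ζ, v⁆ := fun a => by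
    have hc : π ⁅ζ, v⁆ = 1 := bracket_ker X.ker_le (by
      rw [hζimg, hv]; exact (commutes hq hK g1 1).2.2.1)
    have e := conj_bracket X.ker_le (l a) ζ v
    rw [(hζl a).eq, mul_inv_cancel_right, (commute_ker X.ker_le hc (l a)).eq, mul_inv_cancel_right] at e
    exact e.symm
  obtain ⟨w1, hw1, hw1'⟩ : ∃ w : K, w ≠ 0 ∧ w ≠ 1 := by
    obtain ⟨x, hx⟩ := exists_avoid (p := (Polynomial.X * (Polynomial.X - 1) : Polynomial K))
      (mul_ne_zero Polynomial.X_ne_zero (fun h => by simpa using congrArg (Polynomial.eval 0) h))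
      (by
        refine lt_of_le_of_lt (?_ : _ ≤ 2) (by rw [Nat.card_eq_fintype_card, hcard]; norm_num)
        compute_degree)
    simp only [Polynomial.eval_mul, Polynomial.eval_sub, Polynomial.eval_X, Polynomial.eval_one,
      mul_ne_zero_iff, sub_ne_zero] at hx
    exact ⟨x, hx⟩
  have hne : (1 : K) + w1 ≠ 0 := fun h => hw1' (by linear_combination h - hchar)
  have hvζ : Commute v ζ := by
    have hconj : ∀ b, b ≠ 0 → v * va b * v⁻¹ = ζ * va b := fun b hb => by
      rw [← hDζ b hb, commutatorElement_def]; group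
    have e0 : ⁅va 1, va w1⁆ = ζ := by rw [hcc, hDζ _ hne]
    have e1 := conj_bracket X.ker_le v (va 1) (va w1)
    rw [e0, hconj 1 one_ne_zero, hconj w1 hw1] at e1
    set ε := ⁅ζ, v⁆ with hεdef
    have hεc : ∀ x, Commute x ε := commute_ker X.ker_le (bracket_ker X.ker_le (by
      rw [hζimg, hv]; exact (commutes hq hK g1 1).2.2.1))
    have hcal : ⁅ζ * va 1, ζ * va w1⁆ = ζ := by
      have k1 : va 1 * ζ = ε⁻¹ * (ζ * va 1) := by
        rw [← hεa 1, commutatorElement_def]; group
      have k2 : va w1 * ζ⁻¹ * (va w1)⁻¹ = ζ⁻¹ * ε := by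
        rw [← hεa w1, commutatorElement_def]; group
      have k3 : va 1 * va w1 * (va 1)⁻¹ = ζ * va w1 := by
        rw [← e0, commutatorElement_def]; group
      calc ⁅ζ * va 1, ζ * va w1⁆
          = ζ * (va 1 * ζ) * va w1 * (va 1)⁻¹ * ζ⁻¹ * (va w1)⁻¹ * ζ⁻¹ := by
            rw [commutatorElement_def]; group
        _ = ζ * ε⁻¹ * ζ * (va 1 * va w1 * (va 1)⁻¹) * ζ⁻¹ * (va w1)⁻¹ * ζ⁻¹ := by rw [k1]; group
        _ = ζ * ε⁻¹ * ζ * ζ * (va w1 * ζ⁻¹ * (va w1)⁻¹) * ζ⁻¹ := by rw [k3]; group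
        _ = ζ * (ε⁻¹ * ζ) * ζ * ζ⁻¹ * ε * ζ⁻¹ := by rw [k2]; group
        _ = _ := by rw [← ((hεc ζ).inv_right).eq]; group
    rw [hcal] at e1
    exact mul_inv_eq_iff_eq_mul.1 e1
  have hζva : ∀ a, Commute (va a) ζ := fun a => by
    refine (commutatorElement_eq_one_iff_commute.1 ?_).symm
    rw [hεa a, commutatorElement_eq_one_iff_commute]
    exact hvζ.symm
  have hconj : ∀ b, v * va b * v⁻¹ = (if b = 0 then 1 else ζ) * va b := fun b => by
    split_ifs with hb
    · rw [hb, va0]; group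
    · rw [← hDζ b hb, commutatorElement_def]; group
  have hζ2 : ζ * ζ = 1 := by
    have e : ⁅v * v, va 1⁆ = v * ζ * v⁻¹ * ζ := by
      rw [hζdef]; simp only [commutatorElement_def]; group
    rw [bracket_one X.ker_le hvv, hvζ.eq, mul_inv_cancel_right] at e
    exact e.symm
  have hζinv : ζ⁻¹ = ζ := inv_eq_of_mul_eq_one_right hζ2
  have hva2 : ∀ a, va a * va a = v * v := fun a => by
    show l a * v * (l a)⁻¹ * (l a * v * (l a)⁻¹) = v * v
    rw [show l a * v * (l a)⁻¹ * (l a * v * (l a)⁻¹) = l a * (v * v) * (l a)⁻¹ by group,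
      (commute_ker X.ker_le hvv (l a)).eq, mul_inv_cancel_right]
  -- the section
  set w : K → E := fun a => va a * v⁻¹ with hwdef
  set Z := Subgroup.zpowers ζ
  have hζZ : ∀ P : Prop, ∀ [Decidable P], (if P then 1 else ζ) ∈ Z := fun P _ => by
    split_ifs
    · exact one_mem _
    · exact Subgroup.mem_zpowers ζ
  have hwζ : ∀ a, Commute (w a) ζ := fun a => (hζva a).mul_left hvζ.inv_left
  have hw2 : ∀ a, w a * w a ∈ Z := fun a => by
    rw [show w a * w a = va a * (v⁻¹ * va a * v) * v⁻¹ * v⁻¹ by simp only [hwdef]; group]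
    have e : v⁻¹ * va a * v = (if a = 0 then 1 else ζ) * va a := by
      have hc : ∀ z ∈ Z, Commute v z := fun z hz => by
        obtain ⟨k, rfl⟩ := hz; exact hvζ.zpow_right k
      rw [mul_assoc, inv_mul_eq_iff_eq_mul, ← mul_assoc v, (hc _ (hζZ _)).eq, mul_assoc _ v]
      have e := hconj a
      rw [mul_inv_eq_iff_eq_mul] at e
      rw [e, ← mul_assoc, ← mul_assoc]
      congr 2
      split_ifs
      · rw [one_mul, one_mul]
      · rw [hζ2, one_mul]
    have hc2 : Commute (va a) (if a = 0 then 1 else ζ) := by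
      split_ifs
      · exact Commute.one_right _
      · exact hζva a
    rw [e, ← mul_assoc (va a), hc2.eq, mul_assoc _ (va a) (va a), hva2]
    rw [mul_assoc, mul_assoc, show v * v * (v⁻¹ * v⁻¹) = 1 by group, mul_one]
    exact hζZ _
  have hwconjv : ∀ b, v * w b * v⁻¹ = (if b = 0 then 1 else ζ) * w b := fun b => by
    simp only [hwdef]
    rw [show v * (va b * v⁻¹) * v⁻¹ = v * va b * v⁻¹ * v⁻¹ by group, hconj, mul_assoc]
  have hvava : ∀ a b, va a * va b * (va a)⁻¹ = (if a + b = 0 then 1 else ζ) * va b := fun a b => by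
    rw [show va a * va b * (va a)⁻¹ = ⁅va a, va b⁆ * va b by rw [commutatorElement_def]; group, hcc]
    split_ifs with h
    · rw [h, va0, commutatorElement_self]
    · rw [hDζ _ h]
  have hww : ∀ a b, w a * w b * (w a)⁻¹ * (w b)⁻¹ ∈ Z := by
    intro a b
    have hv' : v⁻¹ * w b * v = (if b = 0 then 1 else ζ) * w b := by
      have hc : Commute v (if b = 0 then 1 else ζ) := by
        split_ifs
        · exact Commute.one_right _
        · exact hvζ
      rw [mul_assoc, inv_mul_eq_iff_eq_mul, ← mul_assoc v, hc.eq, mul_assoc _ v]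
      have e := hwconjv b
      rw [mul_inv_eq_iff_eq_mul] at e
      rw [e, ← mul_assoc, ← mul_assoc]
      congr 2
      split_ifs
      · rw [one_mul, one_mul]
      · rw [hζ2, one_mul]
    have hca : ∀ P : Prop, ∀ [Decidable P], Commute (va a) (if P then 1 else ζ) := fun P _ => by
      split_ifs
      · exact Commute.one_right _
      · exact hζva a
    have hva' : va a * w b * (va a)⁻¹ = ((if a + b = 0 then 1 else ζ) * va b) *
        (va a * v * (va a)⁻¹)⁻¹ := by
      rw [← hvava a b]; simp only [hwdef]; group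
    rw [show w a * w b * (w a)⁻¹ * (w b)⁻¹ = va a * (v⁻¹ * w b * v) * (va a)⁻¹ * (w b)⁻¹ by
      simp only [hwdef]; group, hv', ← mul_assoc (va a), (hca _).eq, mul_assoc _ (va a),
      mul_assoc _ (va a * w b), hva']
    have e0 := hvava a 0
    rw [va0] at e0
    rw [e0, mul_inv_rev]
    have hc3 : Commute (va b * v⁻¹) ((if a + 0 = 0 then (1 : E) else ζ)⁻¹) := by
      split_ifs
      · rw [inv_one]; exact Commute.one_right _
      · exact ((hζva b).mul_left hvζ.inv_left).inv_right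
    rw [show ∀ z1 z2 z3 : E, z1 * (z2 * va b * (v⁻¹ * z3)) * (w b)⁻¹ =
      z1 * z2 * (va b * v⁻¹ * z3) * (w b)⁻¹ from fun _ _ _ => by group, hc3.eq, mul_assoc]
    rw [show va b * v⁻¹ = w b from rfl, mul_assoc _ (w b) (w b)⁻¹, mul_inv_cancel, mul_one]
    exact mul_mem (mul_mem (hζZ _) (hζZ _)) (inv_mem (hζZ _))
  set L := ((Finset.univ : Finset K).erase 0).toList.map w with hL
  have hLlen : L.length = 7 := by simp [hL, Finset.card_erase_of_mem, hcard]
  set R := Z ⊔ Subgroup.closure {x | x ∈ L} with hRdef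
  have hwR : ∀ a, w a ∈ R := fun a => by
    by_cases ha : a = 0
    · rw [show w a = 1 by simp only [hwdef, ha, va0, mul_inv_cancel]]; exact one_mem _
    · exact Subgroup.mem_sup_right (Subgroup.subset_closure (List.mem_map.mpr ⟨a, by simp [ha], rfl⟩))
  have hRcard : Nat.card ↥R ≤ 2 ^ 8 := by
    have := card_almost_elementary hζ2 L (fun x hx => by
      obtain ⟨a, -, rfl⟩ := List.mem_map.mp hx; exact hwζ a) (fun x hx => by
      obtain ⟨a, -, rfl⟩ := List.mem_map.mp hx; exact hw2 a) (fun x hx y hy => by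
      obtain ⟨a, -, rfl⟩ := List.mem_map.mp hx
      obtain ⟨b, -, rfl⟩ := List.mem_map.mp hy
      exact hww a b)
    rwa [hLlen] at this
  have hRgen : R = Subgroup.closure ({ζ} ∪ {x | x ∈ L}) := by
    rw [Subgroup.closure_union, ← Subgroup.zpowers_eq_closure]
  have hnorm : ∀ x : E, x * ζ * x⁻¹ ∈ R → (∀ b, x * w b * x⁻¹ ∈ R) →
      x ∈ Subgroup.normalizer (R : Set E) := by
    intro x h1 h2
    refine mem_normalizer_of_conj R fun r hr => ?_
    rw [hRgen] at hr ⊢
    induction hr using Subgroup.closure_induction with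
    | mem y hy =>
      rw [← hRgen]
      rcases hy with rfl | hy
      · exact h1
      · obtain ⟨a, -, rfl⟩ := List.mem_map.mp hy; exact h2 a
    | one => simp
    | mul p r _ _ hp hr => simpa [mul_assoc] using mul_mem hp hr
    | inv p _ hp => simpa [mul_assoc] using inv_mem hp
  have hζR : ζ ∈ R := Subgroup.mem_sup_left (Subgroup.mem_zpowers ζ)
  have nv : v ∈ Subgroup.normalizer (R : Set E) := hnorm v
    (by rw [hvζ.eq, mul_inv_cancel_right]; exact hζR)
    (fun b => by rw [hwconjv]; exact mul_mem (Subgroup.mem_sup_left (hζZ _)) (hwR b))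
  have nl : ∀ a, l a ∈ Subgroup.normalizer (R : Set E) := fun a => hnorm (l a)
    (by rw [(hζl a).eq, mul_inv_cancel_right]; exact hζR)
    (fun b => by
      rw [show l a * w b * (l a)⁻¹ = (l a * va b * (l a)⁻¹) * (l a * v * (l a)⁻¹)⁻¹ by
        simp only [hwdef]; group, lva, show va (a + b) * (l a * v * (l a)⁻¹)⁻¹ = w (a + b) * (w a)⁻¹ by
        simp only [hwdef, hvadef]; group]
      exact mul_mem (hwR _) (inv_mem (hwR _)))
  -- the images
  set B := R.map π
  set V := Subgroup.zpowers (xx 14 1)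
  set AA := Subgroup.closure (Set.range (D4Sub.A hq hK))
  have hBn : ∀ x : E, x ∈ Subgroup.normalizer (R : Set E) → π x ∈ Subgroup.normalizer (B : Set (GL (TT).I K)) := by
    intro x hx
    refine mem_normalizer_of_conj B ?_
    rintro _ ⟨r, hr, rfl⟩
    exact ⟨x * r * x⁻¹, (Subgroup.mem_normalizer_iff.mp hx r).mp hr, by rw [map_mul, map_mul, map_inv]⟩
  have hVn : V ≤ Subgroup.normalizer (B : Set (GL (TT).I K)) := by
    rw [Subgroup.zpowers_le]
    have := hBn v nv
    rwa [hv] at this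
  have hAn : AA ≤ Subgroup.normalizer ((B ⊔ V : Subgroup _) : Set (GL (TT).I K)) := by
    refine (Subgroup.closure_le _).mpr ?_
    rintro _ ⟨a, rfl⟩
    refine mem_normalizer_of_conj _ fun x hx => ?_
    have hx' : x ∈ Subgroup.closure ((B : Set (GL (TT).I K)) ∪ {xx 14 1}) := by
      rw [Subgroup.closure_union, Subgroup.closure_eq, ← Subgroup.zpowers_eq_closure]; exact hx
    clear hx
    induction hx' using Subgroup.closure_induction with
    | mem y hy =>
      rcases hy with hy | rfl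
      · refine Subgroup.mem_sup_left ?_
        have hn := hBn _ (nl a)
        rw [hl] at hn
        exact (Subgroup.mem_normalizer_iff.mp hn y).mp hy
      · have e : D4Sub.A hq hK a * xx 14 1 * (D4Sub.A hq hK a)⁻¹ = π (w a) * xx 14 1 := by
          simp only [hwdef, hvadef]
          rw [map_mul, map_inv, map_mul, map_mul, map_inv, hl, hv]
          exact (inv_mul_cancel_right _ _).symm
        rw [e]
        exact mul_mem (Subgroup.mem_sup_left ⟨_, hwR a, rfl⟩)
          (Subgroup.mem_sup_right (Subgroup.mem_zpowers _))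
    | one => simp
    | mul p r _ _ hp hr => simpa [mul_assoc] using mul_mem hp hr
    | inv p _ hp => simpa [mul_assoc] using inv_mem hp
  have hAcard : Nat.card ↥AA ≤ 8 := by
    let φ : Multiplicative K →* GL (TT).I K := MonoidHom.mk' (fun a => D4Sub.A hq hK (Multiplicative.toAdd a))
      fun a b => (el_add hq hK 4 _ _).symm
    have : AA ≤ φ.range := (Subgroup.closure_le _).mpr fun x ⟨a, e⟩ => ⟨Multiplicative.ofAdd a, e⟩
    refine (Nat.le_of_dvd Nat.card_pos (Subgroup.card_dvd_of_le this)).trans ?_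
    refine (Nat.card_le_card_of_surjective _ φ.rangeRestrict_surjective).trans ?_
    rw [Nat.card_congr Multiplicative.toAdd, Nat.card_eq_fintype_card, hcard]
  have hU : TwistMultiplier.posFix (Twist.D4.setup hq hK) ≤ B ⊔ V ⊔ AA := by
    refine le_trans (posFix_le_two h2 (H := Subgroup.closure (Set.range (D4Sub.A hq hK) ∪ {xx 14 1}))
      (fun t => Subgroup.subset_closure (Or.inl ⟨t, rfl⟩)) (Subgroup.subset_closure (Or.inr rfl))
      (fun c g hg => ?_)) ?_
    · induction hg using Subgroup.closure_induction with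
      | mem y hy =>
        rcases hy with ⟨t, rfl⟩ | rfl
        · rw [show tor q c 1 * D4Sub.A hq hK t = D4Sub.A hq hK ((wt q c 1 4 : K) * t) * tor q c 1 from
            tor_el hq hK c 1 (one_pow q) 4 t, mul_inv_cancel_right]
          exact Subgroup.subset_closure (Or.inl ⟨_, rfl⟩)
        · have e := congrArg π (htorv c)
          rw [map_mul, map_mul, map_inv, hh, hv] at e
          rw [show tor q c 1 * xx 14 1 * (tor q c 1)⁻¹ = xx 14 1 from e]
          exact Subgroup.subset_closure (Or.inr rfl)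
      | one => simp
      | mul p r _ _ hp hr => simpa [mul_assoc] using mul_mem hp hr
      | inv p _ hp => simpa [mul_assoc] using inv_mem hp
    · refine (Subgroup.closure_le _).mpr ?_
      rintro _ (⟨t, rfl⟩ | rfl)
      · exact Subgroup.mem_sup_right (Subgroup.subset_closure ⟨t, rfl⟩)
      · exact Subgroup.mem_sup_left (Subgroup.mem_sup_right (Subgroup.mem_zpowers _))
  have hcardU : Nat.card ↥(TwistMultiplier.posFix (Twist.D4.setup hq hK)) = 2 ^ 12 := by
    have h := ((Twist.D4.setup hq hK).card_Upos (Twist.D4.hcard hq hK)).1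
    rw [posUnipotent_rootGen Data.D4.valid, inf_comm, show (TT).half = 12 by decide +kernel] at h
    replace h := h.trans (show q ^ 12 = 2 ^ 12 by rw [h2])
    rw [TwistMultiplier.posFix, show (TT).half = 12 by decide +kernel]
    exact h
  have hBcard : 2 ^ 8 ≤ Nat.card ↥B := by
    have h1 := Nat.le_of_dvd Nat.card_pos (Subgroup.card_dvd_of_le hU)
    have h2' := card_sup_le _ _ hAn
    have h3 := card_sup_le _ _ hVn
    have h4 : Nat.card ↥V ≤ 2 := card_zpowers_le_two hx14
    rw [hcardU] at h1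
    have h5 : Nat.card ↥(B ⊔ V ⊔ AA) ≤ Nat.card ↥B * 2 * 8 :=
      h2'.trans (Nat.mul_le_mul (h3.trans (Nat.mul_le_mul_left _ h4)) hAcard)
    omega
  have hinj : ∀ e ∈ R, π e = 1 → e = 1 := by
    intro e he hπ
    have hb : Function.Bijective (π.subgroupMap R) :=
      (Nat.bijective_iff_surjective_and_card _).2 ⟨π.subgroupMap_surjective R,
        le_antisymm (hRcard.trans hBcard) (Nat.card_le_card_of_surjective _ (π.subgroupMap_surjective R))⟩
    have := hb.1 (a₁ := ⟨e, he⟩) (a₂ := 1) (by rw [map_one]; exact Subtype.ext hπ)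
    exact congrArg Subtype.val this
  -- the preimage
  refine hinj z ?_ hz
  set Gs : Set E := (R : Set E) ∪ {v} ∪ Set.range l ∪ (π.ker : Set E) with hGs
  have hS : (TwistMultiplier.posFix (Twist.D4.setup hq hK)).comap π ≤ Subgroup.closure Gs := by
    intro x hx
    have hle : B ⊔ V ⊔ AA ≤ (Subgroup.closure Gs).map π := by
      refine sup_le (sup_le ?_ ?_) ((Subgroup.closure_le _).mpr ?_)
      · exact Subgroup.map_mono fun r hr => Subgroup.subset_closure (Or.inl (Or.inl (Or.inl hr)))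
      · rw [Subgroup.zpowers_le]
        exact ⟨v, Subgroup.subset_closure (Or.inl (Or.inl (Or.inr rfl))), hv⟩
      · rintro _ ⟨a, rfl⟩
        exact ⟨l a, Subgroup.subset_closure (Or.inl (Or.inr ⟨a, rfl⟩)), hl a⟩
    obtain ⟨s, hs, e⟩ := hle (hU hx)
    rw [show x = s * (s⁻¹ * x) by group]
    exact mul_mem hs (Subgroup.subset_closure (Or.inr (by
      show π (s⁻¹ * x) = 1
      rw [map_mul, map_inv, e, inv_mul_cancel])))
  have hGn : ∀ x ∈ Gs, x ∈ Subgroup.normalizer (R : Set E) := by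
    rintro x (((hx | rfl) | ⟨a, rfl⟩) | hx)
    · exact Subgroup.le_normalizer hx
    · exact nv
    · exact nl a
    · exact Subgroup.mem_normalizer_iff.mpr fun r => by
        rw [← (commute_ker X.ker_le hx r).eq, mul_inv_cancel_right]
  have hCn : Subgroup.closure Gs ≤ Subgroup.normalizer (R : Set E) := (Subgroup.closure_le _).mpr hGn
  have hgen : ∀ x ∈ Gs, ∀ y ∈ Gs, ⁅x, y⁆ ∈ R := by
    have hR1 : ∀ r ∈ R, ∀ y ∈ Gs, ⁅y, r⁆ ∈ R := fun r hr y hy => by
      rw [commutatorElement_def]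
      exact mul_mem ((Subgroup.mem_normalizer_iff.mp (hGn y hy) r).mp hr) (inv_mem hr)
    intro x hx y hy
    rcases hx with ((hx | rfl) | ⟨a, rfl⟩) | hx
    · rw [← commutatorElement_inv]; exact inv_mem (hR1 x hx y hy)
    · rcases hy with ((hy | rfl) | ⟨b, rfl⟩) | hy
      · exact hR1 y hy _ (Or.inl (Or.inl (Or.inr rfl)))
      · rw [commutatorElement_self]; exact one_mem _
      · rw [← commutatorElement_inv, commutatorElement_def]
        exact inv_mem (hwR b)
      · rw [← commutatorElement_inv, bracket_one X.ker_le hy, inv_one]; exact one_mem _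
    · rcases hy with ((hy | rfl) | ⟨b, rfl⟩) | hy
      · exact hR1 y hy _ (Or.inl (Or.inr ⟨a, rfl⟩))
      · rw [commutatorElement_def]; exact hwR a
      · rw [commutatorElement_eq_one_iff_commute.2 (hll a b)]; exact one_mem _
      · rw [← commutatorElement_inv, bracket_one X.ker_le hy, inv_one]; exact one_mem _
    · rw [bracket_one X.ker_le hx]; exact one_mem _
  have hall : ∀ x ∈ Subgroup.closure Gs, ∀ y ∈ Subgroup.closure Gs, ⁅x, y⁆ ∈ R := by
    have step : ∀ x ∈ Gs, ∀ y ∈ Subgroup.closure Gs, ⁅x, y⁆ ∈ R := by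
      intro x hx y hy
      induction hy using Subgroup.closure_induction with
      | mem y hy => exact hgen x hx y hy
      | one => simp
      | mul p r hp _ h1 h2 =>
        rw [show ⁅x, p * r⁆ = ⁅x, p⁆ * (p * ⁅x, r⁆ * p⁻¹) by simp only [commutatorElement_def]; group]
        exact mul_mem h1 ((Subgroup.mem_normalizer_iff.mp (hCn hp) _).mp h2)
      | inv p hp h1 =>
        rw [show ⁅x, p⁻¹⁆ = p⁻¹ * ⁅x, p⁆⁻¹ * p⁻¹⁻¹ by simp only [commutatorElement_def]; group]
        exact (Subgroup.mem_normalizer_iff.mp (inv_mem (hCn hp)) _).mp (inv_mem h1)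
    intro x hx y hy
    induction hx using Subgroup.closure_induction with
    | mem x hx => exact step x hx y hy
    | one => simp
    | mul p r hp _ h1 h2 =>
      rw [show ⁅p * r, y⁆ = p * ⁅r, y⁆ * p⁻¹ * ⁅p, y⁆ by simp only [commutatorElement_def]; group]
      exact mul_mem ((Subgroup.mem_normalizer_iff.mp (hCn hp) _).mp h2) h1
    | inv p hp h1 =>
      rw [show ⁅p⁻¹, y⁆ = p⁻¹ * ⁅p, y⁆⁻¹ * p⁻¹⁻¹ by simp only [commutatorElement_def]; group]
      exact (Subgroup.mem_normalizer_iff.mp (inv_mem (hCn hp)) _).mp (inv_mem h1)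
  refine (Subgroup.map_le_iff_le_comap.mpr ?_) hd
  rw [_root_.commutator_def, Subgroup.commutator_le]
  rintro ⟨a, ha⟩ - ⟨b, hb⟩ -
  exact hall a (hS ha) b (hS hb)

end CfsgLib.KnownA.D4Multiplier
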