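import Cfsg.Agent.Lib.KnownA.D4Multiplier.Large
import Cfsg.Agent.Lib.KnownA.D4Multiplier.Two
import Cfsg.Agent.Lib.KnownA.TwistMultiplier.Main
import Cfsg.Agent.Lib.Schur.Bound
import Mathlib.GroupTheory.Perm.Cycle.Type

/-!
The Schur multiplier of ³D₄(q) is trivial.
-/

set_option autoImplicit false
set_option maxRecDepth 20000
set_option maxHeartbeats 800000
set_option linter.all false
set_option Elab.async false

namespace CfsgLib.KnownA.D4Multiplier

open CfsgLib.Chevalley CfsgLib.Chevalley.Tbl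
open CfsgLib.Chevalley.Twist.D4 (setup mem_tauFix stOk units_pow_cube)

/-- The torus element of an orbit is the product of the reflections of the orbit. -/
theorem torusHom_orbTorus {T : Tbl} {F : Type*} [Field F] (A : AbSetup T F) {j : ℕ} (hj : j < A.o) (c : Fˣ) :
    torusHom T F (A.orbTorus j c) = TwistMultiplier.cycH A.D (A.L j) (c : F) := by
  obtain ⟨hab, -, hi, -⟩ := A.facts hj
  rw [AbSetup.orbTorus, map_list_prod, List.map_map, TwistMultiplier.cycH_eq A.D hab, A.length_L]
  refine congrArg List.prod (List.map_congr_left fun e he => ?_)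
  have he' := List.mem_range.mp he
  have hlt := hi _ (List.getElem_mem (h := he'))
  simp only [Function.comp_apply, List.getD_eq_getElem _ _ he', dif_pos hlt,
    torusHom_single A.D.ok.valid, AbSetup.L, simples,
    List.getD_eq_getElem _ _ (show e < ((A.Ss.getD j []).map T.simple).length by simpa using he'),
    List.getElem_map]

variable {K : Type*} [Field K] [Finite K] {q : ℕ} (hq : IsPrimePow q) (hK : Nat.card K = q ^ 3)

local notation "SS" => AbSetup.S (Twist.D4.setup hq hK)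

theorem tauFix_inj : (torusHom Data.D4.tbl K).ker ⊓ (setup hq hK).D.tauFix = ⊥ := by
  rw [eq_bot_iff]
  rintro z ⟨hz, hfix⟩
  have hz2 : z ^ 2 = 1 := pow_eq_one_of_torusHom stOk.valid Data.D4.chkSmith (by decide) hz
  obtain ⟨-, h2', h3'⟩ := (mem_tauFix hq hK).mp hfix
  obtain ⟨g, hg⟩ : ∃ g : Fin 4 → Kˣ, g = z := ⟨z, rfl⟩
  subst hg
  have h2 : g 2 = g 0 ^ q := h2'
  have h3 : g 3 = (g 0 ^ q) ^ q := h3'
  have heq := (torusHom_eq_one_iff stOk.valid).mp hz
  have hca : ∀ i j : Fin 4, Data.D4.tbl.ca i.val (Data.D4.tbl.simple j.val) =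
      ([[2, -1, 0, 0], [-1, 2, -1, -1], [0, -1, 2, 0], [0, -1, 0, 2]].getD i.val []).getD j.val 0 := by
    decide +kernel
  have E : ∀ j : Fin 4, ∏ i : Fin 4, g i ^
      ([[2, -1, 0, 0], [-1, 2, -1, -1], [0, -1, 2, 0], [0, -1, 0, 2]].getD i.val []).getD j.val (0 : ℤ) = 1 := by
    intro j
    refine Eq.trans ?_ (heq j)
    exact Finset.prod_congr rfl fun i _ => congrArg (g i ^ ·) (hca i j).symm
  have e0 := E 0
  have e1 := E 1
  simp [Fin.prod_univ_four] at e0 e1
  have s : ∀ i : Fin 4, g i ^ 2 = 1 := fun i => congrFun hz2 i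
  have z1 : g 1 = 1 := by
    rw [s 0, one_mul, inv_eq_one] at e0
    exact e0
  have z0 : g 0 = 1 := by
    have e1' : (g 0)⁻¹ * (g 2)⁻¹ * (g 3)⁻¹ = 1 := by
      simpa [z1] using e1
    rw [← mul_inv, ← mul_inv, inv_eq_one, h2, h3] at e1'
    obtain ⟨k, hk⟩ : Odd (1 + q + q * q) := by
      rw [add_assoc, show q + q * q = q * (q + 1) by ring]
      exact (Nat.even_mul_succ_self q).one_add
    rw [← pow_mul, mul_assoc, ← pow_add, ← pow_succ', show q + q * q + 1 = 2 * k + 1 by omega, pow_succ,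
      pow_mul, s 0, one_pow, one_mul] at e1'
    exact e1'
  show (g : Fin 4 → Kˣ) = 1
  exact funext fun i => match i with
    | 0 => z0
    | 1 => z1
    | 2 => h2.trans (by rw [z0, one_pow]; rfl)
    | 3 => h3.trans (by rw [z0, one_pow, one_pow]; rfl)

theorem torus_inj (c : ∀ j : Fin (setup hq hK).o, ↥(TwistMultiplier.par (setup hq hK) j))
    (hc : ∀ j, c j ≠ 0)
    (h : ((List.finRange (setup hq hK).o).map fun j : Fin (setup hq hK).o =>
      TwistMultiplier.cycH (setup hq hK).D ((setup hq hK).L j) (c j : K)).prod = 1) :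
    ∀ j, c j = 1 := by
  let j0 : Fin (setup hq hK).o := (0 : Fin 2)
  let j1 : Fin (setup hq hK).o := (1 : Fin 2)
  have hne : ∀ j, (c j : K) ≠ 0 := fun j => fun e => hc j (Subtype.ext e)
  set u : Fin (setup hq hK).o → Kˣ := fun j => Units.mk0 (c j : K) (hne j) with hu
  have h' : torusHom Data.D4.tbl K ((setup hq hK).orbTorus 0 (u j0) * (setup hq hK).orbTorus 1 (u j1)) = 1 := by
    rw [map_mul, torusHom_orbTorus _ (show 0 < (setup hq hK).o from Nat.zero_lt_two),
      torusHom_orbTorus _ (show 1 < (setup hq hK).o from Nat.one_lt_two)]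
    refine Eq.trans ?_ h
    rw [show List.finRange (setup hq hK).o = [j0, j1] from rfl]
    simp only [List.map_cons, List.map_nil, List.prod_cons, List.prod_nil, mul_one, hu, Units.val_mk0]
    rfl
  set f := (setup hq hK).orbTorus 0 (u j0) * (setup hq hK).orbTorus 1 (u j1) with hfdef
  let g : Fin 4 → Kˣ := Pi.mulSingle (1 : Fin 4) (u j0) * (Pi.mulSingle (0 : Fin 4) (u j1) *
    (Pi.mulSingle (2 : Fin 4) (u j1 ^ q) * Pi.mulSingle (3 : Fin 4) ((u j1 ^ q) ^ q)))
  have ef : f = g := by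
    rw [hfdef, Twist.D4.orbTorus0, Twist.D4.orbTorus1]
    rfl
  have g0 : g 0 = u j1 := by simp [g]
  have g1 : g 1 = u j0 := by simp [g]
  have g2 : g 2 = u j1 ^ q := by simp [g]
  have g3 : g 3 = (u j1 ^ q) ^ q := by simp [g]
  have e0 : f (0 : Fin 4) = u j1 := (congrFun ef (0 : Fin 4)).trans g0
  have e1 : f (1 : Fin 4) = u j0 := (congrFun ef (1 : Fin 4)).trans g1
  have hf : f ∈ (setup hq hK).D.tauFix := by
    rw [mem_tauFix]
    have h0 : (u j0) ^ q = u j0 := by
      apply Units.ext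
      rw [Units.val_pow_eq_pow_val]
      exact (Twist.D4.fit_iff0 hq hK _).mp (TwistMultiplier.mem_par (setup hq hK) |>.mp (c j0).2)
    refine ⟨?_, ?_, ?_⟩
    · exact (congrArg (· ^ q) e1).trans (h0.trans e1.symm)
    · exact ((congrFun ef (2 : Fin 4)).trans g2).trans (congrArg (· ^ q) e0).symm
    · exact ((congrFun ef (3 : Fin 4)).trans g3).trans (congrArg (fun x : Kˣ => (x ^ q) ^ q) e0).symm
  have hf1 : f = 1 := by
    rw [← Subgroup.mem_bot, ← tauFix_inj hq hK]
    exact ⟨MonoidHom.mem_ker.mpr h', hf⟩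
  replace e0 := (congrFun hf1 (0 : Fin 4)).symm.trans e0
  replace e1 := (congrFun hf1 (1 : Fin 4)).symm.trans e1
  have key : ∀ j : Fin (setup hq hK).o, j = j0 ∨ j = j1 := (by decide : ∀ j : Fin 2, j = 0 ∨ j = 1)
  intro j
  apply Subtype.ext
  rcases key j with rfl | rfl
  · exact (congrArg Units.val e1).symm
  · exact (congrArg Units.val e0).symm

/-- The multiplier of the group of fixed points is trivial. -/
theorem fix_hasCyclicSchurMultiplier_one : Cfsg.HasCyclicSchurMultiplier ↥(SS).fix 1 := by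
  haveI : Finite ↥(SS).fix := Finite.of_injective _ Subtype.val_injective
  refine CfsgLib.Schur.Basic.hasCyclicSchurMultiplier_one_of fun Γ _ _ s hs => ?_
  obtain ⟨hsurj, hk, hd⟩ := hs
  set π : Γ →* GL (Data.D4.tbl).I K := (SS).fix.subtype.comp s with hπ
  have hker : π.ker = s.ker := MonoidHom.ker_comp_of_injective _ _ Subtype.val_injective
  have hrange : π.range = (SS).fix := by
    rw [hπ, MonoidHom.range_comp, MonoidHom.range_eq_top.2 hsurj, ← MonoidHom.range_eq_map,
      Subgroup.range_subtype]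
  have X : Cext hq hK π := ⟨hker ▸ hk, hrange⟩
  have hh : (Data.D4.tbl).half = 12 := by decide +kernel
  set U := TwistMultiplier.posFix (setup hq hK) with hU
  obtain ⟨p, k, hp, hk0, rfl⟩ := (isPrimePow_nat_iff q).1 hq
  haveI := Fact.mk hp
  have hcp : CharP K p := by
    have : Fintype K := Fintype.ofFinite K
    obtain ⟨r, hr⟩ := CharP.exists K
    obtain ⟨n, hr', e⟩ := @FiniteField.card K _ _ r hr
    rw [← Nat.card_eq_fintype_card, hK, ← pow_mul] at e
    have hd' : p ∣ r ^ (n : ℕ) := by rw [← e]; exact dvd_pow_self p (Nat.mul_ne_zero hk0.ne' (by norm_num))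
    have hpr : p = r := (Nat.prime_dvd_prime_iff_eq hp hr').1 (hp.dvd_of_dvd_pow hd')
    exact hpr ▸ hr
  have hindex : ¬ p ∣ (U.subgroupOf (AbSetup.S (setup hq hK)).fix).index := by
    intro hdvd
    have h1 := (U.subgroupOf (AbSetup.S (setup hq hK)).fix).card_mul_index
    have h2 := ((setup hq hK).card_Upos (Twist.D4.hcard hq hK)).1
    rw [posUnipotent_rootGen Data.D4.valid, hh, inf_comm] at h2
    have hle : U ≤ (AbSetup.S (setup hq hK)).fix := inf_le_left
    rw [Nat.card_congr (Subgroup.subgroupOfEquivOfLe hle).toEquiv] at h1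
    rw [show Nat.card ↥U = (p ^ k) ^ 12 by rw [hU, TwistMultiplier.posFix, hh]; exact h2] at h1
    have h3 := Twist.D4.card_eq hq hK
    rw [Twist.D4.G_eq hq hK] at h3
    rw [h3, mul_assoc, mul_assoc] at h1
    have hq1 : 1 ≤ p ^ k := Twist.D4.one_le hq
    rw [Nat.eq_of_mul_eq_mul_left (pow_pos hq1 12) h1] at hdvd
    have hz : ((p ^ k : ℕ) : ZMod p) = 0 := by
      rw [Nat.cast_pow, ZMod.natCast_self, zero_pow (by omega)]
    rw [← ZMod.natCast_eq_zero_iff] at hdvd
    rw [Nat.cast_mul, Nat.cast_mul, Nat.cast_sub (Nat.one_le_pow _ _ hq1), Nat.cast_sub (Nat.one_le_pow _ _ hq1),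
      Nat.cast_add, Nat.cast_add, Nat.cast_pow (p ^ k) 2, Nat.cast_pow (p ^ k) 6, Nat.cast_pow (p ^ k) 8,
      Nat.cast_pow (p ^ k) 4, hz] at hdvd
    simp at hdvd
  have hkill : ∀ z : Γ, s z = 1 → z ^ (U.subgroupOf (AbSetup.S (setup hq hK)).fix).index = 1 := by
    intro z hz
    have hzc : z ∈ commutator Γ := hd hz
    have h := CfsgLib.Schur.Bound.pow_index_mem s hsurj (U.subgroupOf (AbSetup.S (setup hq hK)).fix) (hk hz) hzc
    have hz' : π (z ^ (U.subgroupOf (AbSetup.S (setup hq hK)).fix).index) = 1 := by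
      rw [map_pow, show π z = 1 from congrArg Subtype.val hz, one_pow]
    rcases Nat.lt_or_ge (p ^ k) 3 with h3 | h3
    · exact X.pos_trivial_two (le_antisymm (by omega) hq.two_le) hz' h
    · exact X.pos_trivial_large h3 hz' h
  have hcop : p.Coprime (Nat.card π.ker) := by
    rw [Nat.Prime.coprime_iff_not_dvd hp]
    intro hdvd
    obtain ⟨⟨z, hz⟩, hord⟩ := exists_prime_orderOf_dvd_card' p hdvd
    rw [Subgroup.orderOf_mk] at hord
    refine hindex ?_
    have h := orderOf_dvd_of_pow_eq_one (hkill z (Subtype.ext hz))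
    rwa [hord] at h
  have Y : TwistMultiplier.TwExt (setup hq hK) π p := ⟨⟨X.ker_le, hcop⟩, hrange⟩
  have hmain := Y.ker_inf_commutator (Twist.D4.G_eq hq hK) (Y.T0_inj (torus_inj hq hK))
  rw [← hker, eq_bot_iff, ← hmain]
  exact le_inf le_rfl (hker ▸ hd)

include hq hK in
/-- The multiplier of `³D₄(q)` is trivial. -/
theorem twistedD4_hasCyclicSchurMultiplier_one :
    Cfsg.HasCyclicSchurMultiplier ↥(Cfsg.Lie.twistedD4 K q) 1 :=
  Twist.D4.transfer hq hK (fun _ H => Cfsg.HasCyclicSchurMultiplier ↥H 1)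
    (fix_hasCyclicSchurMultiplier_one hq hK)

end CfsgLib.KnownA.D4Multiplier
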